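import Groth.Agent.InjModLib.Noeth
import Groth.Agent.PerfCompLib.ExtZero
import Groth.Agent.ProjFormLib.Frame

/-!
# Injective modules: flasqueness, restriction, locality
-/

set_option autoImplicit false
set_option backward.isDefEq.respectTransparency false
set_option backward.isDefEq.respectTransparency.types false
set_option linter.style.haveILetI false

universe u

open CategoryTheory CategoryTheory.Limits AlgebraicGeometry TopologicalSpace Opposite MonoidalCategory
open KFlatLib

namespace InjModLib

variable {X : Scheme.{u}}

theorem isIso_stalk_resU {U V : X.Opens} (h : U ≤ V) {q : X} (hq : q ∈ U) :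
    IsIso ((DerSch.stalkFunctor X q).map (resU h)) := by
  have e : (DerSch.stalkFunctor X q).map (resU h) =
      (stalkFreeUIso q hq).hom ≫ (stalkFreeUIso q (h hq)).inv := by
    refine stalk_freeU_ext q hq _ _ ?_
    refine (genGerm_map q hq _).trans ?_
    have h1 : freeUEquiv U (freeU V) (resU h) = (freeU V).presheaf.map (homOfLE h).op (genU V) :=
      (freeUEquiv U _).apply_symm_apply _
    rw [h1]
    refine (TopCat.Presheaf.germ_res_apply (freeU V).presheaf (homOfLE h) q hq (genU V)).trans ?_
    have h2 : (stalkFreeUIso q hq).hom.hom (genGerm q hq) = (1 : X.presheaf.stalk q) := by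
      have h3 := congr($((stalkFreeUIso q hq).inv_hom_id).hom (1 : X.presheaf.stalk q))
      refine Eq.trans (congrArg (stalkFreeUIso q hq).hom.hom ?_) h3
      exact (one_smul _ (genGerm q hq)).symm
    refine Eq.trans ?_ (congrArg (stalkFreeUIso q (h hq)).inv.hom h2).symm
    exact (one_smul _ (genGerm q (h hq))).symm
  rw [e]; infer_instance

theorem mono_resU {U V : X.Opens} (h : U ≤ V) : Mono (resU h) :=
  PerfCompLib.mono_of_stalks _ fun q => by
    by_cases hq : q ∈ U
    · haveI := isIso_stalk_resU h hq; infer_instance
    · haveI := subsingleton_stalk_freeU (U := U) hq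
      exact (ModuleCat.mono_iff_injective _).2 (Function.injective_of_subsingleton _)

theorem mono_tensor_resU (F : X.Modules) {U V : X.Opens} (h : U ≤ V) :
    Mono (((DCoh.tensorBi (X := X)).obj F).map (resU h)) :=
  PerfCompLib.mono_of_stalks _ fun q => by
    by_cases hq : q ∈ U
    · haveI := isIso_stalk_resU h hq
      have e := stalkTensorIso_natural_right (M := F) q (resU h)
      haveI : IsIso ((stalkTensorIso F (freeU U) q).hom ≫
          (DerSch.stalkFunctor X q).map (((DCoh.tensorBi (X := X)).obj F).map (resU h))) := by
        rw [← e]; infer_instance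
      haveI := IsIso.of_isIso_comp_left (stalkTensorIso F (freeU U) q).hom
        ((DerSch.stalkFunctor X q).map (((DCoh.tensorBi (X := X)).obj F).map (resU h)))
      infer_instance
    · have hz : IsZero ((DerSch.stalkFunctor X q).obj (freeU U)) :=
        haveI := subsingleton_stalk_freeU (U := U) hq
        ModuleCat.isZero_of_subsingleton _
      haveI := ModuleCat.subsingleton_of_isZero
        (((tensorLeft ((DerSch.stalkFunctor X q).obj F)).map_isZero hz).of_iso
          (stalkTensorIso F (freeU U) q).symm)
      exact (ModuleCat.mono_iff_injective _).2 (Function.injective_of_subsingleton _)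

/-- Injective modules are flasque. -/
theorem flasque_of_injective (I : X.Modules) [Injective I] {U V : X.Opens} (h : U ≤ V) :
    Function.Surjective (I.presheaf.map (homOfLE h).op) := fun t => by
  haveI := mono_resU h
  let a := Injective.factorThru (secMap t) (resU h)
  refine ⟨freeUEquiv V I a, (freeUEquiv U I).symm.injective ?_⟩
  exact (resU_comp h a).symm.trans (Injective.comp_factorThru (secMap t) (resU h))

/-- Sheaves of homomorphisms into injective modules are flasque. -/
theorem flasque_sheafHom (F I : X.Modules) [DCoh.HasSheafHom F] [Injective I] {U V : X.Opens}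
    (h : U ≤ V) :
    Function.Surjective (((DCoh.sheafHom F).obj I).presheaf.map (homOfLE h).op) := fun t => by
  haveI := mono_tensor_resU F h
  let adj := DCoh.sheafHomAdj F
  let ψ := (adj.homEquiv (freeU U) I).symm (secMap t)
  let a := adj.homEquiv (freeU V) I
    (Injective.factorThru ψ (((DCoh.tensorBi (X := X)).obj F).map (resU h)))
  refine ⟨freeUEquiv V _ a, (freeUEquiv U _).symm.injective ?_⟩
  refine (resU_comp h a).symm.trans ?_
  refine (adj.homEquiv_naturality_left (resU h) _).symm.trans ?_
  exact (congrArg (adj.homEquiv (freeU U) I) (Injective.comp_factorThru ψ _)).trans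
    (Equiv.apply_symm_apply _ _)

/-- The restriction to an open subscheme of an injective module is injective. -/
theorem injective_restrict_ι (U : X.Opens) (I : X.Modules) [Injective I] :
    Injective ((Scheme.Modules.restrictFunctor U.ι).obj I) :=
  haveI := PerfCompLib.preservesFiniteLimits_extZero U
  Injective.injective_of_adjoint (CxOX.extZeroAdj U.ι) I

section Glue

variable {ι : Type*} {W : ι → Scheme.{u}} (j : ∀ i, W i ⟶ X) [∀ i, IsOpenImmersion (j i)]

/-- Injectivity is local. -/
theorem injective_of_cover (hj : ∀ x : X, ∃ i, x ∈ (j i).opensRange) (F : X.Modules)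
    (hF : ∀ i, Injective ((Scheme.Modules.restrictFunctor (j i)).obj F)) : Injective F := by
  haveI := isGrothendieckAbelian_modules (X := X)
  let S := {V : X.Opens // ∃ i, V ≤ (j i).opensRange}
  have hb : Opens.IsBasis (Set.range fun V : S => V.1) := Opens.isBasis_iff_nbhd.2 fun {U x} hx => by
    obtain ⟨i, hi⟩ := hj x
    exact ⟨U ⊓ (j i).opensRange, ⟨⟨_, i, inf_le_right⟩, rfl⟩, ⟨hx, hi⟩, inf_le_left⟩
  refine injective_of_baer (fun V : S => freeU V.1) (fun _ _ f g h => hom_ext_of_basis _ hb f g h) F
    fun V X₀ m hm φ => ?_
  obtain ⟨V, i, hV⟩ := V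
  haveI := hF i
  let adj := Scheme.Modules.restrictAdjunction (j i)
  let R := Scheme.Modules.restrictFunctor (j i)
  let g := Injective.factorThru (R.map φ) (R.map m)
  let G := adj.homEquiv (freeU V) (R.obj F) g
  have hG : m ≫ G = φ ≫ adj.unit.app F :=
    (adj.homEquiv_naturality_left m g).symm.trans
      ((congrArg (adj.homEquiv X₀ (R.obj F)) (Injective.comp_factorThru (R.map φ) (R.map m))).trans
        ((adj.homEquiv_unit X₀ _ _).trans (adj.unit.naturality φ).symm))
  have hbij : ∀ O : X.Opens, O ≤ (j i).opensRange → Function.Bijective ((adj.unit.app F).app O) := by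
    intro O hO
    have e : j i ''ᵁ j i ⁻¹ᵁ O = O := by
      rw [Scheme.Hom.image_preimage_eq_opensRange_inf, inf_eq_right.2 hO]
    have e' : (homOfLE ((j i).image_preimage_le O)) = eqToHom e := Subsingleton.elim _ _
    haveI : IsIso (F.presheaf.map (homOfLE ((j i).image_preimage_le O)).op) := by
      rw [e']; infer_instance
    exact ConcreteCategory.bijective_of_isIso (F.presheaf.map (homOfLE ((j i).image_preimage_le O)).op)
  obtain ⟨a, ha⟩ := (hbij V hV).2 (freeUEquiv V _ G)
  have hψ : secMap a ≫ adj.unit.app F = G := (freeUEquiv V _).injective (by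
    rw [freeUEquiv_comp, secMap, Equiv.apply_symm_apply]; exact ha)
  refine ⟨secMap a, ?_⟩
  have hd : (m ≫ secMap a) ≫ adj.unit.app F = φ ≫ adj.unit.app F := by
    rw [Category.assoc, hψ, hG]
  refine Scheme.Modules.hom_ext _ _ fun O => ConcreteCategory.hom_ext _ _ fun t => ?_
  refine ProjFormLib.section_ext _ _ fun q hqO => ?_
  by_cases hq : q ∈ V
  · have hqO' : q ∈ O ⊓ (j i).opensRange := ⟨hqO, hV hq⟩
    let r := homOfLE (inf_le_left : O ⊓ (j i).opensRange ≤ O)
    have h1 := (hbij (O ⊓ (j i).opensRange) inf_le_right).1
      (congr($(hd).app (O ⊓ (j i).opensRange) (X₀.presheaf.map r.op t)))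
    have h2 := congrArg (F.presheaf.germ (O ⊓ (j i).opensRange) q hqO')
      ((QCohLib.app_map (m ≫ secMap a) r t).symm.trans (h1.trans (QCohLib.app_map φ r t)))
    exact (TopCat.Presheaf.germ_res_apply F.presheaf r q hqO' _).symm.trans
      (h2.trans (TopCat.Presheaf.germ_res_apply F.presheaf r q hqO' _))
  · have key : ∀ p : X₀ ⟶ F,
        ProjFormLib.ger F q hqO (p.app O t) =
          ((DerSch.stalkFunctor X q).map p).hom (ProjFormLib.ger X₀ q hqO t) :=
      fun p => (DerSch.stalkFunctor_map_germ q p O hqO t).symm
    refine (key _).trans (Eq.trans ?_ (key _).symm)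
    haveI := subsingleton_stalk_freeU (U := V) hq
    haveI : Subsingleton ((DerSch.stalkFunctor X q).obj X₀) := (stalk_injective m q).subsingleton
    have h0 : ProjFormLib.ger X₀ q hqO t = 0 :=
      @Subsingleton.elim ((DerSch.stalkFunctor X q).obj X₀) _ _ _
    rw [h0, map_zero, map_zero]

end Glue

theorem injective_of_locally_injective (F : X.Modules)
    (hF : ∀ x : X, ∃ U : X.Opens, x ∈ U ∧ Injective ((Scheme.Modules.restrictFunctor U.ι).obj F)) :
    Injective F := by
  choose U hx hU using hF
  exact injective_of_cover (fun x => (U x).ι) (fun x => ⟨x, by rw [Scheme.Opens.opensRange_ι]; exact hx x⟩) F hU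

/-- The skyscraper of an injective module over the local ring is injective. -/
theorem injective_skyObj (x : X) (A : ModuleCat.{u} (X.presheaf.stalk x)) [Injective A] :
    Injective ((skyMod x).obj A) :=
  Injective.injective_of_adjoint (skyAdj x) A

end InjModLib
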