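import Groth.Agent.InjModLib.Crit
import Groth.Agent.ProjClosedImmLib.Stalk
import Groth.Agent.CycKSuppLib.Killed
import Groth.Agent.KFlatLib.PerfectPull
import Groth.Prelude.Def_ModSite

/-!
# Sheaves of homomorphisms into injectives from a closed subscheme
-/

set_option autoImplicit false
set_option backward.isDefEq.respectTransparency false
set_option backward.isDefEq.respectTransparency.types false
set_option linter.style.haveILetI false

universe u

open CategoryTheory CategoryTheory.Limits AlgebraicGeometry MonoidalCategory
open KFlatLib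

namespace InjModLib

variable {X P : Scheme.{u}}

theorem mono_tensor_of_isFlat {A B : X.Modules} (m : A ⟶ B) [Mono m] (N : X.Modules)
    (hN : FlatMod.IsFlat N) : Mono (((DCoh.tensorBi (X := X)).map m).app N) :=
  PerfCompLib.mono_of_stalks _ fun x => by
    have e := stalkTensorIso_natural_left (N := N) x m
    haveI : Module.Flat (X.presheaf.stalk x) ((DerSch.stalkFunctor X x).obj N) := hN x
    haveI : Mono ((DerSch.stalkFunctor X x).map m ▷ (DerSch.stalkFunctor X x).obj N) :=
      (ModuleCat.mono_iff_injective _).2 (Module.Flat.rTensor_preserves_injective_linearMap _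
        (stalk_injective m x))
    haveI : Mono ((stalkTensorIso A N x).hom ≫
        (DerSch.stalkFunctor X x).map (((DCoh.tensorBi (X := X)).map m).app N)) := by
      rw [← e]; infer_instance
    have h : (DerSch.stalkFunctor X x).map (((DCoh.tensorBi (X := X)).map m).app N) =
        (stalkTensorIso A N x).inv ≫ (stalkTensorIso A N x).hom ≫
          (DerSch.stalkFunctor X x).map (((DCoh.tensorBi (X := X)).map m).app N) :=
      (Iso.inv_hom_id_assoc _ _).symm
    rw [h]
    infer_instance

theorem injective_of_push_iso_sheafHom (i : X ⟶ P) [IsClosedImmersion i] (Q : P.Modules) [Injective Q]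
    (E : X.Modules) (hE : FlatMod.IsFinLocFree E)
    [ModSite.HasSheafHom (O := P.sheaf) ((Scheme.Modules.pushforward i).obj E)] (J : X.Modules)
    (e : (Scheme.Modules.pushforward i).obj J ≅
      (ModSite.sheafHom (O := P.sheaf) ((Scheme.Modules.pushforward i).obj E)).obj Q) :
    Injective J := by
  constructor
  intro A B g m _
  let p := Scheme.Modules.pushforward i
  let pE := p.obj E
  let T := (ModSite.tensorBi P.sheaf).flip.obj pE
  let adj : T ⊣ ModSite.sheafHom (O := P.sheaf) pE := ModSite.sheafHomAdj (O := P.sheaf) pE
  haveI := CycKSuppLib.isIso_counit i E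
  have hflat : FlatMod.IsFlat ((Scheme.Modules.pullback i).obj pE) :=
    flat_of_iso (CycKSuppLib.pullPushIso i E).symm (isFlat_of_isFinLocFree hE)
  haveI := mono_tensor_of_isFlat m _ hflat
  haveI : Mono (p.map (((DCoh.tensorBi (X := X)).map m).app ((Scheme.Modules.pullback i).obj pE))) :=
    Functor.map_mono p _
  haveI : Mono (T.map (p.map m)) := by
    haveI : Mono (((DCoh.tensorBi (X := P)).map (p.map m)).app pE) := by
      haveI : Mono (((DCoh.tensorBi (X := P)).map (p.map m)).app pE ≫
          ProjClosedImmLib.projR i B pE) := by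
        rw [ProjClosedImmLib.projR_natural_left i m pE]; infer_instance
      exact mono_of_mono _ (ProjClosedImmLib.projR i B pE)
    exact this
  let τ := (adj.homEquiv (p.obj A) Q).symm (p.map g ≫ e.hom)
  let σ := adj.homEquiv (p.obj B) Q (Injective.factorThru τ (T.map (p.map m)))
  have hσ : p.map m ≫ σ = p.map g ≫ e.hom :=
    (adj.homEquiv_naturality_left _ _).symm.trans
      ((congrArg (adj.homEquiv (p.obj A) Q) (Injective.comp_factorThru _ _)).trans
        (Equiv.apply_symm_apply _ _))
  haveI : IsIso (Scheme.Modules.pullbackPushforwardAdjunction i).counit := by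
    rw [NatTrans.isIso_iff_isIso_app]
    exact CycKSuppLib.isIso_counit i
  let ff := (Scheme.Modules.pullbackPushforwardAdjunction i).fullyFaithfulROfIsIsoCounit
  refine ⟨ff.preimage (σ ≫ e.inv), ff.map_injective ?_⟩
  rw [Functor.map_comp, ff.map_preimage, ← Category.assoc, hσ, Category.assoc, Iso.hom_inv_id,
    Category.comp_id]

end InjModLib
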