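import Groth.Agent.InjModLib.LocNoeth
import Groth.Agent.KFlatLib.FPLift
import Groth.Agent.KFlatLib.PullTensor
import Groth.Agent.FlatLib.QStalk

/-!
# Noetherian generators of the category of modules on a locally Noetherian scheme
-/

set_option autoImplicit false
set_option backward.isDefEq.respectTransparency false
set_option backward.isDefEq.respectTransparency.types false
set_option maxHeartbeats 1000000
set_option linter.style.haveILetI false

universe u

open CategoryTheory CategoryTheory.Limits AlgebraicGeometry TopologicalSpace Opposite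
open KFlatLib

namespace InjModLib

variable {X : Scheme.{u}}

/-- Sections over a basis separate morphisms. -/
theorem hom_ext_of_basis {ι : Type*} (V : ι → X.Opens) (hV : Opens.IsBasis (Set.range V))
    {M N : X.Modules} (g h : M ⟶ N) (hgh : ∀ i (a : freeU (V i) ⟶ M), a ≫ g = a ≫ h) : g = h := by
  refine Scheme.Modules.hom_ext _ _ fun U => ?_
  ext s
  choose W hW hp hWU using fun p : U => Opens.isBasis_iff_nbhd.mp hV p.2
  refine TopCat.Sheaf.eq_of_locally_eq' ((QCohLib.toAbF X).obj N : TopCat.Sheaf AddCommGrpCat _)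
    W U (fun p => homOfLE (hWU p)) (fun q hq => Opens.mem_iSup.mpr ⟨⟨q, hq⟩, hp ⟨q, hq⟩⟩) _ _
    fun p => ?_
  obtain ⟨i, hi⟩ := hW p
  have key : ∀ {W' : X.Opens}, V i = W' → ∀ t : Γ(M, W'), g.app W' t = h.app W' t := by
    rintro _ rfl t
    have h2 := congrArg (freeUEquiv (V i) N) (hgh i (secMap t))
    rwa [freeUEquiv_comp, freeUEquiv_comp, secMap, Equiv.apply_symm_apply] at h2
  exact ((QCohLib.app_map g _ s).symm.trans (key hi _)).trans (QCohLib.app_map h _ s)

theorem stalk_injective {M N : X.Modules} (φ : M ⟶ N) [Mono φ] (q : X) :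
    Function.Injective ((DerSch.stalkFunctor X q).map φ).hom :=
  (ModuleCat.mono_iff_injective _).1 inferInstance

theorem subsingleton_stalk_freeU {U : X.Opens} {q : X} (hq : q ∉ U) :
    Subsingleton ((DerSch.stalkFunctor X q).obj (freeU U)) := by
  refine ModuleCat.subsingleton_of_isZero ((IsZero.iff_id_eq_zero _).2 ?_)
  exact (skyHomEquiv q (freeU U) _).injective ((freeUEquiv U _).injective
    (skyObj_ext q _ _ _ fun h => absurd h hq))

section

variable {V : X.Opens} {q : X}

/-- Coordinates in the stalk of `freeU V`. -/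
theorem exists_eq_smul_gen (hq : q ∈ V) (z : (DerSch.stalkFunctor X q).obj (freeU V)) :
    ∃ a : X.presheaf.stalk q, z = a • genGerm q hq :=
  ⟨(stalkFreeUIso q hq).hom.hom z, (congr($((stalkFreeUIso q hq).hom_inv_id).hom z)).symm⟩

theorem smul_gen_injective (hq : q ∈ V) :
    Function.Injective fun a : X.presheaf.stalk q => a • genGerm q hq :=
  fun a b h => by
    have h1 := congrArg (stalkFreeUIso q hq).hom.hom h
    exact (congr($((stalkFreeUIso q hq).inv_hom_id).hom a)).symm.trans
      (h1.trans (congr($((stalkFreeUIso q hq).inv_hom_id).hom b)))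

/-- The trace on `Γ(X, V)` of the stalk at `q` of a submodule of `freeU V`. -/
def trace (s : Subobject (freeU V)) (hq : q ∈ V) : Set Γ(X, V) :=
  {c | (X.presheaf.germ V q hq c) • genGerm q hq ∈
    LinearMap.range ((DerSch.stalkFunctor X q).map s.arrow).hom}

theorem trace_mono {s t : Subobject (freeU V)} (h : s ≤ t) (hq : q ∈ V) :
    trace s hq ⊆ trace t hq := fun c ⟨y, hy⟩ =>
  ⟨((DerSch.stalkFunctor X q).map (Subobject.ofLE s t h)).hom y, by
    rw [← hy, ← Subobject.ofLE_arrow h, Functor.map_comp]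
    rfl⟩

/-- The trace as an ideal. -/
def traceIdeal (s : Subobject (freeU V)) (hq : q ∈ V) : Ideal Γ(X, V) where
  carrier := trace s hq
  zero_mem' := by
    refine ⟨0, ?_⟩
    rw [map_zero, map_zero, zero_smul]
  add_mem' := fun {a b} ⟨y, hy⟩ ⟨y', hy'⟩ => ⟨y + y', by rw [map_add, hy, hy', map_add, add_smul]⟩
  smul_mem' := fun r a ⟨y, hy⟩ => ⟨X.presheaf.germ V q hq r • y, by
    rw [map_smul, hy, smul_eq_mul, map_mul, mul_smul]⟩

theorem mem_traceIdeal {s : Subobject (freeU V)} (hq : q ∈ V) {c : Γ(X, V)} :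
    c ∈ traceIdeal s hq ↔ c ∈ trace s hq := Iff.rfl

/-- Membership in the trace spreads to a neighbourhood. -/
theorem exists_nhd_trace {s : Subobject (freeU V)} (hq : q ∈ V) {c : Γ(X, V)}
    (hc : c ∈ trace s hq) :
    ∃ W : X.Opens, q ∈ W ∧ ∀ (r : X) (hr : r ∈ V), r ∈ W → c ∈ trace s hr := by
  obtain ⟨y, hy⟩ := hc
  obtain ⟨W, hqW, t, rfl⟩ :=
    TopCat.Presheaf.exists_germ_eq (Scheme.Modules.presheaf (s : X.Modules)) (x := q) y
  let e : Γ(freeU V, V) := c • genU V
  have hq' : (freeU V).presheaf.germ V q hq e = (freeU V).presheaf.germ W q hqW (s.arrow.app W t) :=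
    (FlatLib.germ_smul_mod _ hq c (genU V)).trans
      (hy.symm.trans (DerSch.stalkFunctor_map_germ q s.arrow W hqW t))
  obtain ⟨O, hqO, i₁, i₂, hO⟩ := (freeU V).presheaf.germ_eq q hq hqW _ _ hq'
  refine ⟨O, hqO, fun r hr hrO => ?_⟩
  refine ⟨(Scheme.Modules.presheaf (s : X.Modules)).germ W r (i₂.le hrO) t, ?_⟩
  refine (DerSch.stalkFunctor_map_germ r s.arrow W _ t).trans ?_
  refine Eq.trans ?_ (FlatLib.germ_smul_mod _ hr c (genU V))
  have h1 := TopCat.Presheaf.germ_res_apply (freeU V).presheaf i₂ r hrO (s.arrow.app W t)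
  have h2 := TopCat.Presheaf.germ_res_apply (freeU V).presheaf i₁ r hrO e
  exact h1.symm.trans ((congrArg _ hO.symm).trans h2)

theorem trace_subset_of_specializes {s : Subobject (freeU V)} {η : X} (hη : η ∈ V) (hq : q ∈ V)
    (h : η ⤳ q) : trace s hq ⊆ trace s hη := fun c hc => by
  obtain ⟨W, hqW, hW⟩ := exists_nhd_trace hq hc
  exact hW η hη (h.mem_open W.2 hqW)

/-- A submodule of `freeU V` is determined by its traces when `V` is affine. -/
theorem eq_of_trace_eq (hV : IsAffineOpen V) {s t : Subobject (freeU V)} (h : s ≤ t)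
    (e : ∀ (q : X) (hq : q ∈ V), trace t hq ⊆ trace s hq) : s = t := by
  let i := Subobject.ofLE s t h
  haveI : IsIso i := by
    refine isIso_of_stalks i fun q => ?_
    refine (ConcreteCategory.isIso_iff_bijective _).2 ⟨stalk_injective i q, fun y => ?_⟩
    have hs : ((DerSch.stalkFunctor X q).map s.arrow) =
        (DerSch.stalkFunctor X q).map i ≫ (DerSch.stalkFunctor X q).map t.arrow := by
      rw [← Functor.map_comp, Subobject.ofLE_arrow]
    by_cases hq : q ∈ V
    · obtain ⟨a, ha⟩ := exists_eq_smul_gen hq (((DerSch.stalkFunctor X q).map t.arrow).hom y)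
      letI : Algebra Γ(X, V) (X.presheaf.stalk q) := (X.presheaf.germ V q hq).hom.toAlgebra
      haveI := hV.isLocalization_stalk ⟨q, hq⟩
      obtain ⟨c, d, rfl⟩ := IsLocalization.exists_mk'_eq (hV.primeIdealOf ⟨q, hq⟩).asIdeal.primeCompl a
      obtain ⟨u, hu⟩ := IsLocalization.map_units (X.presheaf.stalk q) d
      have hc : c ∈ trace t hq := ⟨(u : X.presheaf.stalk q) • y, by
        rw [map_smul, ha, ← mul_smul, hu, mul_comm]
        exact congrArg (· • _) (IsLocalization.mk'_spec _ c d)⟩
      obtain ⟨x, hx⟩ := e q hq hc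
      refine ⟨(↑u⁻¹ : X.presheaf.stalk q) • x, stalk_injective t.arrow q ?_⟩
      refine Eq.trans ?_ ha.symm
      have hx' := hx
      rw [hs] at hx'
      refine (congrArg _ (map_smul _ _ _)).trans ((map_smul _ _ _).trans ?_)
      refine (congrArg ((↑u⁻¹ : X.presheaf.stalk q) • ·) hx').trans ?_
      rw [← mul_smul]
      refine congrArg (· • _) ?_
      change _ * algebraMap Γ(X, V) (X.presheaf.stalk q) c = _
      rw [← IsLocalization.mk'_spec (X.presheaf.stalk q) c d, mul_comm, mul_assoc, ← hu,
        Units.mul_inv, mul_one]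
    · haveI := subsingleton_stalk_freeU (U := V) hq
      exact ⟨0, stalk_injective t.arrow q (Subsingleton.elim _ _)⟩
  exact le_antisymm h (Subobject.le_of_comm (inv i) (by rw [IsIso.inv_comp_eq, Subobject.ofLE_arrow]))

end

/-- Traces of an increasing sequence are stationary on an affine open with Noetherian ring. -/
theorem exists_trace_stationary {V : X.Opens} (hV : IsAffineOpen V) [IsNoetherianRing Γ(X, V)]
    (c : ℕ →o Subobject (freeU V)) : ∃ n, ∀ m, n ≤ m → ∀ (q : X) (hq : q ∈ V),
      trace (c m) hq ⊆ trace (c n) hq := by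
  suffices H : ∀ I : Ideal Γ(X, V), ∃ n, ∀ m, n ≤ m → ∀ (q : X) (hq : q ∈ V),
      I ≤ (hV.primeIdealOf ⟨q, hq⟩).asIdeal → trace (c m) hq ⊆ trace (c n) hq by
    obtain ⟨n, hn⟩ := H ⊥
    exact ⟨n, fun m hm q hq => hn m hm q hq bot_le⟩
  intro I
  induction I using (wellFounded_gt (α := Ideal Γ(X, V))).induction with
  | _ I ih =>
    by_cases hI : I.IsPrime
    · let p : PrimeSpectrum Γ(X, V) := ⟨I, hI⟩
      obtain ⟨η, hη, hηp⟩ : ∃ (η : X) (hη : η ∈ V), hV.primeIdealOf ⟨η, hη⟩ = p := by
        refine ⟨hV.fromSpec p, (Set.ext_iff.1 hV.range_fromSpec _).1 ⟨p, rfl⟩, ?_⟩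
        exact hV.fromSpec.injective (hV.fromSpec_primeIdealOf _)
      obtain ⟨n₀, hn₀⟩ := WellFoundedGT.monotone_chain_condition (α := Ideal Γ(X, V))
        ⟨fun k => traceIdeal (c k) hη, fun a b hab => trace_mono (c.monotone hab) hη⟩
      obtain ⟨T, hT⟩ := IsNoetherian.noetherian (traceIdeal (c n₀) hη)
      choose W hW₁ hW₂ using fun b : T => exists_nhd_trace (s := c n₀) hη (c := b.1)
        (hT ▸ Submodule.subset_span b.2 : b.1 ∈ traceIdeal (c n₀) hη)
      let W₀ : X.Opens := Finset.univ.inf W
      have hW₀ : η ∈ W₀ := by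
        rw [← SetLike.mem_coe, Opens.coe_finset_inf, Finset.inf_set_eq_iInter]
        exact Set.mem_iInter₂.2 fun b _ => hW₁ b
      obtain ⟨g, hgW, hgη⟩ := QCohLib.exists_basicOpen_nhd hV hW₀ hη
      have hmem : ∀ (q : X) (hq : q ∈ V), g ∉ (hV.primeIdealOf ⟨q, hq⟩).asIdeal →
          q ∈ X.basicOpen g := fun q hq hg => by
        letI : Algebra Γ(X, V) (X.presheaf.stalk q) := (X.presheaf.germ V q hq).hom.toAlgebra
        haveI := hV.isLocalization_stalk ⟨q, hq⟩
        exact (X.mem_basicOpen g q hq).2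
          ((IsLocalization.AtPrime.isUnit_to_map_iff (X.presheaf.stalk q) _ g).2 hg)
      have hgI : g ∉ I := fun hg => by
        letI : Algebra Γ(X, V) (X.presheaf.stalk η) := (X.presheaf.germ V η hη).hom.toAlgebra
        haveI := hV.isLocalization_stalk ⟨η, hη⟩
        have hu := (IsLocalization.AtPrime.isUnit_to_map_iff (X.presheaf.stalk η)
          (hV.primeIdealOf ⟨η, hη⟩).asIdeal g).1 ((X.mem_basicOpen g η hη).1 hgη)
        rw [hηp] at hu
        exact hu hg
      obtain ⟨n₁, hn₁⟩ := ih (I ⊔ Ideal.span {g})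
        (lt_of_le_of_ne le_sup_left fun e => hgI (e ▸ Ideal.mem_sup_right (Ideal.mem_span_singleton_self g)))
      refine ⟨max n₀ n₁, fun m hm q hq hIq => ?_⟩
      by_cases hgq : g ∈ (hV.primeIdealOf ⟨q, hq⟩).asIdeal
      · exact (hn₁ m (by omega) q hq (sup_le hIq ((Ideal.span_singleton_le_iff_mem _).2 hgq))).trans
          (trace_mono (c.monotone (le_max_right _ _)) hq)
      · have hspec : η ⤳ q := by
          have h1 : p ⤳ hV.primeIdealOf ⟨q, hq⟩ := (PrimeSpectrum.le_iff_specializes _ _).1 hIq
          have h2 := h1.map hV.fromSpec.continuous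
          rw [← hηp, hV.fromSpec_primeIdealOf, hV.fromSpec_primeIdealOf] at h2
          exact h2
        intro a ha
        have ha' : a ∈ traceIdeal (c n₀) hη := by
          have h1 : a ∈ traceIdeal (c m) hη := trace_subset_of_specializes hη hq hspec ha
          have h2 : traceIdeal (c m) hη = traceIdeal (c n₀) hη := (hn₀ m (by omega)).symm
          rwa [h2] at h1
        rw [← hT] at ha'
        refine trace_mono (c.monotone (le_max_left _ _)) hq ?_
        have hle : Submodule.span Γ(X, V) (T : Set Γ(X, V)) ≤ traceIdeal (c n₀) hq :=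
          Submodule.span_le.2 fun b hb => hW₂ ⟨b, hb⟩ q hq (by
            have := hgW (hmem q hq hgq)
            rw [← SetLike.mem_coe, Opens.coe_finset_inf, Finset.inf_set_eq_iInter] at this
            exact Set.mem_iInter₂.1 this _ (Finset.mem_univ _))
        exact hle ha'
    · by_cases htop : I = ⊤
      · exact ⟨0, fun m _ q hq hle => absurd (top_le_iff.1 (htop ▸ hle))
          (hV.primeIdealOf ⟨q, hq⟩).isPrime.ne_top⟩
      · obtain ⟨a, b, hab, ha, hb⟩ : ∃ a b, a * b ∈ I ∧ a ∉ I ∧ b ∉ I := by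
          by_contra hne
          push Not at hne
          exact hI ⟨htop, fun {a b} hab => or_iff_not_imp_left.2 (hne a b hab)⟩
        obtain ⟨n₁, hn₁⟩ := ih (I ⊔ Ideal.span {a})
          (lt_of_le_of_ne le_sup_left fun e => ha (e ▸ Ideal.mem_sup_right (Ideal.mem_span_singleton_self a)))
        obtain ⟨n₂, hn₂⟩ := ih (I ⊔ Ideal.span {b})
          (lt_of_le_of_ne le_sup_left fun e => hb (e ▸ Ideal.mem_sup_right (Ideal.mem_span_singleton_self b)))
        refine ⟨max n₁ n₂, fun m hm q hq hIq => ?_⟩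
        rcases (hV.primeIdealOf ⟨q, hq⟩).isPrime.mem_or_mem (hIq hab) with h | h
        · exact (hn₁ m (by omega) q hq (sup_le hIq ((Ideal.span_singleton_le_iff_mem _).2 h))).trans
            (trace_mono (c.monotone (le_max_left _ _)) hq)
        · exact (hn₂ m (by omega) q hq (sup_le hIq ((Ideal.span_singleton_le_iff_mem _).2 h))).trans
            (trace_mono (c.monotone (le_max_right _ _)) hq)

theorem isNoetherianObject_freeU {V : X.Opens} (hV : IsAffineOpen V) [IsNoetherianRing Γ(X, V)] :
    IsNoetherianObject (freeU V) := by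
  suffices h : WellFoundedGT (Subobject (freeU V)) by
    rw [IsNoetherianObject, ObjectProperty.is_iff]; exact h
  rw [wellFoundedGT_iff_monotone_chain_condition]
  intro c
  obtain ⟨n, hn⟩ := exists_trace_stationary hV c
  exact ⟨n, fun m hm => eq_of_trace_eq hV (c.monotone hm) (hn m hm)⟩

/-- The affine opens as an index type. -/
theorem basis_affine : Opens.IsBasis (Set.range fun V : X.affineOpens => (V : X.Opens)) := by
  rw [Subtype.range_coe_subtype]
  exact X.isBasis_affineOpens

theorem isNoetherianObject_freeU' [IsLocallyNoetherian X] (V : X.affineOpens) :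
    IsNoetherianObject (freeU (V : X.Opens)) :=
  haveI := IsLocallyNoetherian.component_noetherian (X := X) V
  isNoetherianObject_freeU V.2

theorem isGrothendieckAbelian_modules : IsGrothendieckAbelian.{u} X.Modules :=
  inferInstanceAs (IsGrothendieckAbelian.{u} (SheafOfModules.{u} X.ringCatSheaf))

/-- Coproducts of injective modules on a locally Noetherian scheme are injective. -/
theorem injective_sigma [IsLocallyNoetherian X] {α : Type u} (I : α → X.Modules)
    (hI : ∀ a, Injective (I a)) : Injective (∐ I) :=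
  haveI := isGrothendieckAbelian_modules (X := X)
  injective_coproduct (fun V : X.affineOpens => freeU (V : X.Opens))
    (fun _ _ f g h => hom_ext_of_basis _ basis_affine f g h) isNoetherianObject_freeU' I hI

end InjModLib
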