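import Groth.Agent.InjModLib.TildeSky
import Groth.Agent.InjHullLib.Noetherian
import Groth.Agent.InjHullLib.Quotient
import Groth.Agent.QCohLib.Affine
import Mathlib.Algebra.Category.ModuleCat.Products

/-!
# Quasi-coherent injective modules
-/

set_option autoImplicit false
set_option backward.isDefEq.respectTransparency false
set_option backward.isDefEq.respectTransparency.types false
set_option linter.style.haveILetI false

universe u

open CategoryTheory CategoryTheory.Limits AlgebraicGeometry TopologicalSpace Opposite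
open KFlatLib InjHull

namespace InjModLib

section Spec

variable {R : CommRingCat.{u}}

/-- The ring of global sections of `Spec R`. -/
noncomputable def topRingEquiv (R : CommRingCat.{u}) : Γ(Spec R, (⊤ : (Spec R).Opens)) ≃+* R :=
  (Scheme.ΓSpecIso R).commRingCatIsoToRingEquiv

theorem smul_top_eq {M : (Spec R).Modules} (s : Γ(Spec R, (⊤ : (Spec R).Opens)))
    (m : Γ(M, (⊤ : (Spec R).Opens))) : s • m = topRingEquiv R s • m := by
  rw [Scheme.Modules.smul_Spec_def]
  have h1 : (Scheme.ΓSpecIso R).inv (topRingEquiv R s) = s := Iso.hom_inv_id_apply _ s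
  rw [h1]
  have h2 : (⊤ : (Spec R).Opens).leTop = 𝟙 _ := Subsingleton.elim _ _
  rw [h2, op_id, CategoryTheory.Functor.map_id]
  rfl

attribute [local instance] RingHomInvPair.of_ringEquiv in
theorem injective_top_of_injective (M : (Spec R).Modules) (E : ModuleCat.{u} R)
    [Module.Injective R E] (e : E ≃ₗ[R] Γ(M, (⊤ : (Spec R).Opens))) :
    Module.Injective Γ(Spec R, (⊤ : (Spec R).Opens)) Γ(M, (⊤ : (Spec R).Opens)) := by
  haveI : Module.Injective R Γ(M, (⊤ : (Spec R).Opens)) :=
    InjHullLib.injective_of_equiv ‹Module.Injective R E› e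
  exact Module.Injective.of_ringEquiv (topRingEquiv R).symm
    { AddEquiv.refl Γ(M, (⊤ : (Spec R).Opens)) with
      map_smul' := fun r m => by
        change r • m = (topRingEquiv R).symm r • m
        rw [smul_top_eq, RingEquiv.apply_symm_apply] }

theorem notMem_primeIdealOf_top (p : (Spec R : Scheme.{u})) (s : Γ(Spec R, (⊤ : (Spec R).Opens))) :
    s ∉ ((isAffineOpen_top (Spec R)).primeIdealOf ⟨p, trivial⟩).asIdeal ↔
      topRingEquiv R s ∉ p.asIdeal := by
  let hT := isAffineOpen_top (Spec R)
  letI : Algebra Γ(Spec R, (⊤ : (Spec R).Opens)) ((Spec R).presheaf.stalk p) :=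
    ((Spec R).presheaf.germ ⊤ p trivial).hom.toAlgebra
  haveI := hT.isLocalization_stalk ⟨p, trivial⟩
  have h1 : IsUnit ((Spec R).presheaf.germ ⊤ p trivial s) ↔
      s ∈ (hT.primeIdealOf ⟨p, trivial⟩).asIdeal.primeCompl :=
    IsLocalization.AtPrime.isUnit_to_map_iff ((Spec R).presheaf.stalk p) _ s
  refine h1.symm.trans (((Spec R).mem_basicOpen s p trivial).symm.trans ?_)
  rw [basicOpen_eq_of_affine']
  rfl

variable [IsNoetherianRing R]

theorem injective_tilde_hull (E : ModuleCat.{u} R) (p : Ideal R) [p.IsPrime] (f : (R ⧸ p) →ₗ[R] E)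
    (hf : IsInjectiveHull f) : Injective (tilde E) := by
  let e : E ≃ₗ[R] Γ(tilde E, (⊤ : (Spec R).Opens)) := (tilde.isoTop E).toLinearEquiv
  haveI := hf.isInjective
  haveI := injective_top_of_injective (tilde E) E e
  haveI : IsNoetherianRing Γ(Spec R, (⊤ : (Spec R).Opens)) :=
    isNoetherianRing_of_ringEquiv R (topRingEquiv R).symm
  let pt : PrimeSpectrum R := ⟨p, inferInstance⟩
  refine injective_of_isSky (tilde E) (X := Spec R) pt (fun s hs => ?_) fun s hs m => ?_
  · have hb := InjHullLib.smul_bijective_of_notMem p hf ((notMem_primeIdealOf_top pt s).1 hs)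
    have he : (fun m : Γ(tilde E, (⊤ : (Spec R).Opens)) => s • m) =
        e ∘ (fun x : E => topRingEquiv R s • x) ∘ e.symm := by
      funext m
      rw [smul_top_eq, Function.comp_apply, Function.comp_apply, map_smul, e.apply_symm_apply]
    rw [he]
    exact e.bijective.comp (hb.comp e.symm.bijective)
  · have hs' : topRingEquiv R s ∈ p := by
      by_contra h
      exact (notMem_primeIdealOf_top pt s).2 h hs
    obtain ⟨n, hn⟩ := InjHullLib.exists_pow_smul_eq_zero_of_mem p hf.toIsEssentialInj hs' (e.symm m)
    refine ⟨n, ?_⟩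
    rw [smul_top_eq, map_pow]
    exact e.symm.injective (by rw [map_smul, map_zero]; exact hn)

open scoped DirectSum Classical in
/-- The sheaf of an injective module over a Noetherian ring is injective. -/
theorem injective_tilde (I : ModuleCat.{u} R) [Module.Injective R I] : Injective (tilde I) := by
  obtain ⟨ι, E, hE, hind⟩ :=
    InjHullLib.exists_isInternal_indecomposable (R := R) I ‹Module.Injective R I›
  let Z : ι → ModuleCat.{u} R := fun i => ModuleCat.of R (E i)
  have h : ∀ i, Injective (tilde (Z i)) := fun i => by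
    obtain ⟨p, hp, f, hf⟩ := InjHullLib.exists_hull_prime_of_indecomposable (hind i).1 (hind i).2
    exact injective_tilde_hull (Z i) p f hf
  haveI : IsLocallyNoetherian (Spec R) := inferInstance
  let φ : ∐ Z ≅ I := ModuleCat.coprodIsoDirectSum Z ≪≫
    (LinearEquiv.ofBijective (DirectSum.coeLinearMap E) hE).toModuleIso
  haveI := (tilde.adjunction (R := R)).leftAdjoint_preservesColimits
  haveI := injective_sigma (X := Spec R) (fun i => (tilde.functor R).obj (Z i)) h
  exact Injective.of_iso ((PreservesCoproduct.iso (tilde.functor R) Z).symm ≪≫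
    (tilde.functor R).mapIso φ) inferInstance

end Spec

variable {X : Scheme.{u}}

theorem exists_sectionsEquiv {U : X.Opens} (hU : IsAffineOpen U) (M : X.Modules) :
    Nonempty (((moduleSpecΓFunctor (R := Γ(X, U))).obj (M.restrict hU.fromSpec)) ≃ₗ[Γ(X, U)]
      Γ(M, U)) := by
  have hW : hU.fromSpec ''ᵁ ⊤ = U :=
    (Scheme.Hom.image_top_eq_opensRange _).trans hU.opensRange_fromSpec
  let e : Γ(M.restrict hU.fromSpec, ⊤) ≅ Γ(M, U) :=
    M.restrictAppIso hU.fromSpec ⊤ ≪≫ M.presheaf.mapIso (eqToIso hW.symm).op
  refine ⟨{ e.addCommGroupIsoToAddEquiv with map_smul' := fun r x => ?_ }⟩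
  change M.presheaf.map (eqToHom hW.symm).op ((M.restrictAppIso hU.fromSpec ⊤).hom (r • x)) = r • _
  rw [QCohLib.restrict_smul hU M ⊤ hW.le r x, Scheme.Modules.map_smul]
  congr 1
  rw [← CommRingCat.comp_apply, ← X.presheaf.map_comp]
  exact congr($(X.presheaf.map_id (op U)) r)

theorem injective_restrict_fromSpec (F : X.Modules) [Coh.IsQCoh F] {U : X.Opens} (hU : IsAffineOpen U)
    [IsNoetherianRing Γ(X, U)] [Module.Injective Γ(X, U) Γ(F, U)] :
    Injective (F.restrict hU.fromSpec) := by
  haveI : IsIso (F.restrict hU.fromSpec).fromTildeΓ :=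
    @Scheme.Modules.isIso_fromTildeΓ_of_isQuasicoherent _ _
      (Scheme.Modules.isQuasicoherent_restrictFunctor hU.fromSpec F)
  obtain ⟨e⟩ := exists_sectionsEquiv hU F
  let N := (moduleSpecΓFunctor (R := Γ(X, U))).obj (F.restrict hU.fromSpec)
  haveI : Module.Injective Γ(X, U) N := InjHullLib.injective_of_equiv ‹_› e.symm
  exact Injective.of_iso (asIso (F.restrict hU.fromSpec).fromTildeΓ) (injective_tilde N)

/-- A quasi-coherent module with injective sections over affine opens is injective. -/
theorem injective_of_sections [IsLocallyNoetherian X] (F : X.Modules) [Coh.IsQCoh F]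
    (hF : ∀ U : X.affineOpens, Module.Injective Γ(X, (U : X.Opens)) Γ(F, (U : X.Opens))) :
    Injective F :=
  injective_of_cover (fun U : X.affineOpens => U.2.fromSpec)
    (fun x => by
      obtain ⟨U, hU, hx, -⟩ := Opens.isBasis_iff_nbhd.1 X.isBasis_affineOpens (Opens.mem_top x)
      exact ⟨⟨U, hU⟩, by rw [IsAffineOpen.opensRange_fromSpec]; exact hx⟩)
    F fun U =>
      haveI := IsLocallyNoetherian.component_noetherian (X := X) U
      haveI := hF U
      injective_restrict_fromSpec F U.2

attribute [local instance] RingHomInvPair.of_ringEquiv in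
/-- Sections of a quasi-coherent module with injective stalks are injective. -/
theorem sections_injective_of_stalks (F : X.Modules) [Coh.IsQCoh F] {U : X.Opens} (hU : IsAffineOpen U)
    [IsNoetherianRing Γ(X, U)]
    (h : ∀ x ∈ U, Module.Injective (X.presheaf.stalk x) (F.presheaf.stalk x)) :
    Module.Injective Γ(X, U) Γ(F, U) := by
  let pt : ∀ (P : Ideal Γ(X, U)) [P.IsMaximal], PrimeSpectrum Γ(X, U) :=
    fun P _ => ⟨P, Ideal.IsMaximal.isPrime ‹_›⟩
  refine Module.injective_of_localization_maximal fun P hP => ?_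
  have hmem : hU.fromSpec (pt P) ∈ U := hU.range_fromSpec.le ⟨pt P, rfl⟩
  let q := hU.fromSpec (pt P)
  have hq : (hU.primeIdealOf ⟨q, hmem⟩).asIdeal = P :=
    congrArg PrimeSpectrum.asIdeal (hU.fromSpec.injective (hU.fromSpec_primeIdealOf ⟨q, hmem⟩))
  letI := Module.compHom (F.presheaf.stalk q) (X.presheaf.germ U q hmem).hom
  letI : Algebra Γ(X, U) (X.presheaf.stalk q) := (X.presheaf.germ U q hmem).hom.toAlgebra
  haveI : IsScalarTower Γ(X, U) (X.presheaf.stalk q) (F.presheaf.stalk q) :=
    IsScalarTower.of_algebraMap_smul fun _ _ => rfl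
  haveI hl := hU.isLocalization_stalk ⟨q, hmem⟩
  haveI hm := FlatLib.isLocalizedModule_germLin F hU hmem
  haveI hl' : IsLocalization.AtPrime (X.presheaf.stalk q) P := by simpa only [hq] using hl
  haveI hm' : IsLocalizedModule P.primeCompl (FlatLib.germLin F hmem) := by
    simpa only [show (hU.primeIdealOf ⟨hU.fromSpec (pt P), hmem⟩).asIdeal = P from hq] using hm
  haveI := h q hmem
  let f := FlatLib.germLin F hmem
  let L := IsLocalizedModule.linearEquiv P.primeCompl f
    (LocalizedModule.mkLinearMap P.primeCompl Γ(F, U))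
  refine Module.Injective.of_ringEquiv (M := F.presheaf.stalk q)
    (IsLocalization.algEquiv P.primeCompl (X.presheaf.stalk q) (Localization.AtPrime P)).toRingEquiv
    { L with map_smul' := ?_ }
  intro r m
  obtain ⟨r, s, rfl⟩ := IsLocalization.exists_mk'_eq P.primeCompl r
  apply ((Module.End.isUnit_iff _).mp
    (IsLocalizedModule.map_units (LocalizedModule.mkLinearMap P.primeCompl Γ(F, U)) s)).1
  dsimp
  simp only [← map_smul, ← smul_assoc, IsLocalization.smul_mk'_self, algebraMap_smul]
  rw [AlgEquiv.commutes, algebraMap_smul, map_smul]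

theorem injective_iff_stalks [IsLocallyNoetherian X] (F : X.Modules) [Coh.IsQCoh F]
    (h : ∀ x : X, Module.Injective (X.presheaf.stalk x) (F.presheaf.stalk x)) : Injective F :=
  injective_of_sections F fun U =>
    haveI := IsLocallyNoetherian.component_noetherian (X := X) U
    sections_injective_of_stalks F U.2 fun x _ => h x

end InjModLib
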