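import Groth.Agent.InjModLib.TildeInj
import Groth.Agent.AffPushPCLib.Square
import Groth.Agent.FlatRelPCLib.Basic

/-!
# Sections and stalks of injective modules
-/

set_option autoImplicit false
set_option backward.isDefEq.respectTransparency false
set_option backward.isDefEq.respectTransparency.types false
set_option linter.style.haveILetI false

universe u

open CategoryTheory CategoryTheory.Limits AlgebraicGeometry TopologicalSpace Opposite

namespace InjModLib

variable {X : Scheme.{u}}

theorem injective_restrict_iso {Y : Scheme.{u}} (a : Y ⟶ X) [IsIso a] (I : X.Modules) [Injective I] :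
    Injective ((Scheme.Modules.restrictFunctor a).obj I) :=
  Injective.of_iso ((Groth.Agent.AffPushPCLib.resIsoPush a).app I).symm
    (Injective.injective_of_adjoint (Scheme.Modules.restrictAdjunction (inv a)) I)

theorem injective_restrict_fromSpec' (I : X.Modules) [Injective I] {U : X.Opens} (hU : IsAffineOpen U) :
    Injective (I.restrict hU.fromSpec) :=
  haveI := injective_restrict_ι U I
  Injective.of_iso
    (((Scheme.Modules.restrictFunctorCongr (hU.isoSpec_inv_ι).symm).app I) ≪≫
      (Scheme.Modules.restrictFunctorComp hU.isoSpec.inv U.ι).app I).symm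
    (injective_restrict_iso hU.isoSpec.inv ((Scheme.Modules.restrictFunctor U.ι).obj I))

/-- Sections of an injective module over an affine open form an injective module. -/
theorem sections_injective (I : X.Modules) [Injective I] {U : X.Opens} (hU : IsAffineOpen U) :
    Module.Injective Γ(X, U) Γ(I, U) := by
  haveI := injective_restrict_fromSpec' I hU
  haveI : PreservesFiniteLimits (tilde.functor Γ(X, U)) :=
    Groth.Agent.FlatRelPCLib.tildeExact Γ(X, U)
  haveI hN := Injective.injective_of_adjoint (tilde.adjunction (R := Γ(X, U))) (I.restrict hU.fromSpec)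
  haveI : Module.Injective Γ(X, U) ((moduleSpecΓFunctor (R := Γ(X, U))).obj (I.restrict hU.fromSpec)) :=
    Module.injective_module_of_injective_object _ _
  obtain ⟨e⟩ := exists_sectionsEquiv hU I
  exact InjHullLib.injective_of_equiv ‹_› e

/-- Stalks of injective modules on a locally Noetherian scheme are injective. -/
theorem stalk_injective_of_injective [IsLocallyNoetherian X] (I : X.Modules) [Injective I] (q : X) :
    Module.Injective (X.presheaf.stalk q) (I.presheaf.stalk q) := by
  classical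
  obtain ⟨U, hU, hq, -⟩ := Opens.isBasis_iff_nbhd.1 X.isBasis_affineOpens (Opens.mem_top q)
  haveI := IsLocallyNoetherian.component_noetherian (X := X) ⟨U, hU⟩
  letI := Module.compHom (I.presheaf.stalk q) (X.presheaf.germ U q hq).hom
  letI : Algebra Γ(X, U) (X.presheaf.stalk q) := (X.presheaf.germ U q hq).hom.toAlgebra
  haveI : IsScalarTower Γ(X, U) (X.presheaf.stalk q) (I.presheaf.stalk q) :=
    IsScalarTower.of_algebraMap_smul fun _ _ => rfl
  haveI := hU.isLocalization_stalk ⟨q, hq⟩
  let P := (hU.primeIdealOf ⟨q, hq⟩).asIdeal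
  refine Module.Baer.injective fun J g => ?_
  let J₀ : Ideal Γ(X, U) := J.comap (algebraMap Γ(X, U) (X.presheaf.stalk q))
  obtain ⟨T, hT⟩ := IsNoetherian.noetherian J₀
  have hTJ : ∀ t : T, algebraMap Γ(X, U) (X.presheaf.stalk q) t.1 ∈ J := fun t =>
    (hT ▸ Submodule.subset_span t.2 : t.1 ∈ J₀)
  let p : (T → Γ(X, U)) →ₗ[Γ(X, U)] Γ(X, U) := Fintype.linearCombination Γ(X, U) fun t : T => t.1
  choose V hV s hs using fun t : T =>
    TopCat.Presheaf.exists_germ_eq I.presheaf (x := q) (g ⟨_, hTJ t⟩)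
  let V₀ : X.Opens := Finset.univ.inf V
  have hV₀ : q ∈ V₀ := by
    rw [← SetLike.mem_coe, Opens.coe_finset_inf, Finset.inf_set_eq_iInter]
    exact Set.mem_iInter₂.2 fun t _ => hV t
  have key : ∀ {W : X.Opens} (hWV : W ≤ V₀) (hqW : q ∈ W) (hWU : W ≤ U) (c : T → Γ(X, U)),
      I.presheaf.germ W q hqW (∑ t, X.presheaf.map (homOfLE hWU).op (c t) •
          I.presheaf.map (homOfLE (hWV.trans (Finset.inf_le (Finset.mem_univ t)))).op (s t)) =
        g ⟨algebraMap Γ(X, U) _ (p c), by
          change p c ∈ J₀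
          rw [← hT]
          exact Submodule.sum_mem _ fun t _ => Submodule.smul_mem _ _ (Submodule.subset_span t.2)⟩ := by
    intro W hWV hqW hWU c
    rw [map_sum]
    have he : (⟨algebraMap Γ(X, U) _ (p c), by
          change p c ∈ J₀
          rw [← hT]
          exact Submodule.sum_mem _ fun t _ => Submodule.smul_mem _ _ (Submodule.subset_span t.2)⟩ : J) =
        ∑ t, algebraMap Γ(X, U) (X.presheaf.stalk q) (c t) • ⟨_, hTJ t⟩ := by
      apply Subtype.ext
      simp [p, Fintype.linearCombination_apply, Algebra.smul_def]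
    rw [he, map_sum]
    refine Finset.sum_congr rfl fun t _ => ?_
    refine (FlatLib.germ_smul_mod I hqW _ _).trans (Eq.trans ?_ (LinearMap.map_smul g _ _).symm)
    rw [← hs t]
    exact congrArg₂ (· • ·) (TopCat.Presheaf.germ_res_apply X.presheaf _ q hqW (c t))
      (TopCat.Presheaf.germ_res_apply I.presheaf _ q hqW (s t))
  obtain ⟨Z, hZ⟩ := IsNoetherian.noetherian (LinearMap.ker p)
  obtain ⟨V₁, hV₁, hV₁U, hqV₁, hV₁0⟩ : ∃ (V₁ : X.Opens) (h : V₁ ≤ V₀) (hU' : V₁ ≤ U) (_ : q ∈ V₁),
      ∀ c ∈ Z, (∑ t, X.presheaf.map (homOfLE hU').op (c t) •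
          I.presheaf.map (homOfLE (h.trans (Finset.inf_le (Finset.mem_univ t)))).op (s t)) = 0 := by
    have hne : ∀ c : Z, ∃ (O : X.Opens) (_ : q ∈ O) (h : O ≤ V₀ ⊓ U),
        (∑ t, X.presheaf.map (homOfLE (h.trans inf_le_right)).op (c.1 t) •
          I.presheaf.map (homOfLE ((h.trans inf_le_left).trans (Finset.inf_le (Finset.mem_univ t)))).op
            (s t)) = 0 := fun c => by
      let z := ∑ t, X.presheaf.map (homOfLE (inf_le_right : V₀ ⊓ U ≤ U)).op (c.1 t) •
        I.presheaf.map (homOfLE ((inf_le_left : V₀ ⊓ U ≤ V₀).trans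
          (Finset.inf_le (Finset.mem_univ t)))).op (s t)
      have hz : I.presheaf.germ (V₀ ⊓ U) q ⟨hV₀, hq⟩ z = I.presheaf.germ (V₀ ⊓ U) q ⟨hV₀, hq⟩ 0 := by
        refine (key inf_le_left ⟨hV₀, hq⟩ inf_le_right c.1).trans ?_
        have hc : p c.1 = 0 := (hZ ▸ Submodule.subset_span c.2 : c.1 ∈ LinearMap.ker p)
        rw [map_zero]
        refine (congrArg g (Subtype.ext ?_)).trans (map_zero g)
        change algebraMap Γ(X, U) (X.presheaf.stalk q) (p c.1) = 0
        rw [hc, map_zero]
      obtain ⟨O, hO, i₁, i₂, e⟩ := I.presheaf.germ_eq q _ _ _ _ hz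
      refine ⟨O, hO, i₁.le, Eq.trans ?_ (e.trans (map_zero (I.presheaf.map i₂.op).hom))⟩
      rw [map_sum]
      refine Finset.sum_congr rfl fun t _ => ?_
      rw [Scheme.Modules.map_smul, ← CommRingCat.comp_apply, ← X.presheaf.map_comp,
        ← ConcreteCategory.comp_apply, ← I.presheaf.map_comp]
      rfl
    choose O hO hOV hO0 using hne
    refine ⟨(V₀ ⊓ U) ⊓ Finset.univ.inf O, inf_le_left.trans inf_le_left, inf_le_left.trans inf_le_right,
      ⟨⟨hV₀, hq⟩, ?_⟩, fun c hc => ?_⟩
    · rw [Opens.coe_finset_inf, Finset.inf_set_eq_iInter]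
      exact Set.mem_iInter₂.2 fun c _ => hO c
    · have hle : (V₀ ⊓ U) ⊓ Finset.univ.inf O ≤ O ⟨c, hc⟩ :=
        inf_le_right.trans (Finset.inf_le (Finset.mem_univ _))
      have h1 := congrArg (I.presheaf.map (homOfLE hle).op) (hO0 ⟨c, hc⟩)
      rw [map_zero, map_sum] at h1
      refine Eq.trans (Finset.sum_congr rfl fun t _ => ?_) h1
      rw [Scheme.Modules.map_smul, ← CommRingCat.comp_apply, ← X.presheaf.map_comp,
        ← ConcreteCategory.comp_apply, ← I.presheaf.map_comp]
      rfl
  obtain ⟨b, hbW, hqb⟩ := QCohLib.exists_basicOpen_nhd hU hqV₁ hq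
  let W := X.basicOpen b
  have hWU : W ≤ U := X.basicOpen_le b
  letI : Module Γ(X, U) Γ(I, W) := Module.compHom Γ(I, W) (X.presheaf.map (homOfLE hWU).op).hom
  haveI : IsScalarTower Γ(X, U) Γ(X, W) Γ(I, W) :=
    IsScalarTower.of_algebraMap_smul fun _ _ => rfl
  haveI : IsLocalization.Away b Γ(X, W) := hU.isLocalization_basicOpen b
  haveI : Module.Flat Γ(X, U) Γ(X, W) := IsLocalization.flat Γ(X, W) (Submonoid.powers b)
  haveI hinj : Module.Injective Γ(X, U) Γ(I, W) :=
    InjHullLib.injective_restrictScalars Γ(X, W) (sections_injective I (hU.basicOpen b))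
  let φ : (T → Γ(X, U)) →ₗ[Γ(X, U)] Γ(I, W) :=
    Fintype.linearCombination Γ(X, U) fun t : T =>
      I.presheaf.map (homOfLE ((hbW.trans hV₁).trans (Finset.inf_le (Finset.mem_univ t)))).op (s t)
  have hφ : LinearMap.ker p ≤ LinearMap.ker φ := by
    rw [← hZ, Submodule.span_le]
    intro c hc
    have h1 := congrArg (I.presheaf.map (homOfLE hbW).op) (hV₁0 c hc)
    rw [map_zero, map_sum] at h1
    rw [SetLike.mem_coe, LinearMap.mem_ker]
    refine Eq.trans ?_ h1
    rw [Fintype.linearCombination_apply]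
    refine Finset.sum_congr rfl fun t _ => ?_
    rw [Scheme.Modules.map_smul, ← CommRingCat.comp_apply, ← X.presheaf.map_comp,
      ← ConcreteCategory.comp_apply, ← I.presheaf.map_comp]
    rfl
  obtain ⟨Φ, hΦ⟩ := Module.Baer.of_injective hinj (LinearMap.range p)
    ((LinearMap.ker p).liftQ φ hφ ∘ₗ p.quotKerEquivRange.symm.toLinearMap)
  have hΦ' : ∀ c, Φ (p c) = φ c := fun c => by
    refine (hΦ (p c) ⟨c, rfl⟩).trans ?_
    change (LinearMap.ker p).liftQ φ hφ (p.quotKerEquivRange.symm ⟨p c, _⟩) = _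
    have : p.quotKerEquivRange.symm ⟨p c, ⟨c, rfl⟩⟩ = Submodule.Quotient.mk c := by
      rw [LinearEquiv.symm_apply_eq]; rfl
    rw [this]; rfl
  refine ⟨LinearMap.toSpanSingleton _ _ (I.presheaf.germ W q hqb (Φ 1)), fun z hz => ?_⟩
  change z • I.presheaf.germ W q hqb (Φ 1) = g ⟨z, hz⟩
  obtain ⟨a, d, rfl⟩ := IsLocalization.exists_mk'_eq P.primeCompl z
  have ha : a ∈ J₀ := by
    change algebraMap Γ(X, U) (X.presheaf.stalk q) a ∈ J
    rw [← IsLocalization.mk'_spec (X.presheaf.stalk q) a d]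
    exact J.mul_mem_right _ hz
  obtain ⟨c, rfl⟩ : ∃ c, p c = a := by
    rw [← hT] at ha
    obtain ⟨c, hc⟩ := Submodule.mem_span_finset'.1 ha
    exact ⟨c, (Fintype.linearCombination_apply _ _ _).trans hc⟩
  have hu := IsLocalization.map_units (X.presheaf.stalk q) d
  refine hu.smul_left_cancel.1 ?_
  have h2 : algebraMap Γ(X, U) (X.presheaf.stalk q) d • (⟨_, hz⟩ : J) =
      ⟨algebraMap Γ(X, U) (X.presheaf.stalk q) (p c), ha⟩ :=
    Subtype.ext (IsLocalization.mk'_spec' (X.presheaf.stalk q) (p c) d)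
  rw [← mul_smul, IsLocalization.mk'_spec', ← map_smul g, h2]
  refine Eq.trans ?_ (key (hbW.trans hV₁) hqb hWU c)
  refine Eq.trans ?_ (congrArg (I.presheaf.germ W q hqb) (hΦ' c) |>.trans (congrArg _ ?_))
  · conv_rhs => rw [← mul_one (p c), ← smul_eq_mul, map_smul]
    refine Eq.trans ?_ (FlatLib.germ_smul_mod I hqb _ (Φ 1)).symm
    exact congrArg (· • _) (TopCat.Presheaf.germ_res_apply X.presheaf _ q hqb (p c)).symm
  · exact Fintype.linearCombination_apply _ _ _

end InjModLib
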