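import Mathlib

/-!
# An injectivity criterion on primes
-/

set_option autoImplicit false

universe u

namespace InjModLib

variable {R : Type u} [CommRing R] [IsNoetherianRing R] {I C F : Type u}
  [AddCommGroup I] [Module R I] [AddCommGroup C] [Module R C] [AddCommGroup F] [Module R F]
  [Module.Injective R I] (ι : F →ₗ[R] I) (π : I →ₗ[R] C)

theorem lift_of_primes
    (h : ∀ p : Ideal R, p.IsPrime → ∀ c : C, (∀ a ∈ p, a • c = 0) →
      ∃ i : I, π i = c ∧ ∀ a ∈ p, a • i = 0)
    {M : Type u} [AddCommGroup M] [Module R M] [hM : Module.Finite R M] (f : M →ₗ[R] C) :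
    ∃ g : M →ₗ[R] I, π ∘ₗ g = f := by
  revert f
  refine IsNoetherianRing.induction_on_isQuotientEquivQuotientPrime R hM
    (motive := fun N _ _ _ => ∀ f : N →ₗ[R] C, ∃ g : N →ₗ[R] I, π ∘ₗ g = f) ?_ ?_ ?_
  · intro N _ _ _ _ f
    exact ⟨0, LinearMap.ext fun x => by rw [Subsingleton.elim x 0, map_zero, map_zero]⟩
  · intro N _ _ _ p e f
    obtain ⟨i, hi, hp⟩ := h p.1 p.2 (f (e.symm (Submodule.Quotient.mk 1))) fun a ha => by
      rw [← map_smul, ← map_smul, ← Submodule.Quotient.mk_smul, smul_eq_mul, mul_one,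
        (Submodule.Quotient.mk_eq_zero _).2 ha, map_zero, map_zero]
    refine ⟨(p.1.liftQ (LinearMap.toSpanSingleton R I i) fun a ha => hp a ha) ∘ₗ e.toLinearMap,
      LinearMap.ext fun x => ?_⟩
    obtain ⟨y, rfl⟩ := e.symm.surjective x
    obtain ⟨r, rfl⟩ := Submodule.Quotient.mk_surjective _ y
    simp only [LinearMap.comp_apply, LinearEquiv.coe_coe, e.apply_symm_apply, Submodule.liftQ_apply]
    refine (map_smul π r i).trans ?_
    rw [hi, ← map_smul, ← map_smul, ← Submodule.Quotient.mk_smul, smul_eq_mul, mul_one]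
  · intro A _ _ _ B _ _ _ D _ _ _ a b ha hb hab hA hD f
    obtain ⟨g, hg⟩ := hA (f ∘ₗ a)
    obtain ⟨k, hk⟩ := Module.Injective.out a ha g
    have h0 : LinearMap.ker b ≤ LinearMap.ker (f - π ∘ₗ k) := fun x hx => by
      obtain ⟨z, rfl⟩ := (hab x).1 hx
      rw [LinearMap.mem_ker, LinearMap.sub_apply, LinearMap.comp_apply, hk, sub_eq_zero]
      exact (LinearMap.congr_fun hg z).symm
    obtain ⟨g', hg'⟩ := hD ((LinearMap.ker b).liftQ _ h0 ∘ₗ
      (b.quotKerEquivOfSurjective hb).symm.toLinearMap)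
    refine ⟨k + g' ∘ₗ b, LinearMap.ext fun x => ?_⟩
    have h1 := LinearMap.congr_fun hg' (b x)
    simp only [LinearMap.comp_apply, LinearEquiv.coe_coe] at h1
    have h2 : (b.quotKerEquivOfSurjective hb).symm (b x) = Submodule.Quotient.mk x :=
      (LinearEquiv.symm_apply_eq _).2 (LinearMap.quotKerEquivOfSurjective_apply_mk _ hb x).symm
    rw [h2] at h1
    rw [LinearMap.comp_apply, LinearMap.add_apply, LinearMap.comp_apply, map_add, h1]
    change π (k x) + (f x - π (k x)) = f x
    abel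

theorem injective_of_lift_primes (hι : Function.Injective ι) (hex : Function.Exact ι π)
    (h : ∀ p : Ideal R, p.IsPrime → ∀ c : C, (∀ a ∈ p, a • c = 0) →
      ∃ i : I, π i = c ∧ ∀ a ∈ p, a • i = 0) : Module.Injective R F := by
  refine Module.Baer.injective fun J g => ?_
  obtain ⟨k, hk⟩ := Module.Baer.of_injective ‹Module.Injective R I› J (ι ∘ₗ g)
  have h0 : J ≤ LinearMap.ker (π ∘ₗ k) := fun a ha => by
    rw [LinearMap.mem_ker, LinearMap.comp_apply, hk a ha]
    exact hex.apply_apply_eq_zero _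
  obtain ⟨l, hl⟩ := lift_of_primes π h ((J : Submodule R R).liftQ (π ∘ₗ k) h0)
  let m := k - l ∘ₗ (J : Submodule R R).mkQ
  have hm : ∀ r, ∃ x, ι x = m r := fun r => (hex (m r)).1 (by
    have := LinearMap.congr_fun hl (Submodule.Quotient.mk r)
    simp only [LinearMap.comp_apply] at this
    rw [LinearMap.sub_apply, map_sub, LinearMap.comp_apply, Submodule.mkQ_apply, this]
    exact sub_self _)
  choose x hx using hm
  refine ⟨LinearMap.toSpanSingleton R F (x 1), fun a ha => hι ?_⟩
  rw [LinearMap.toSpanSingleton_apply, map_smul, hx, ← map_smul, smul_eq_mul, mul_one]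
  change k a - l (Submodule.Quotient.mk a) = _
  rw [(Submodule.Quotient.mk_eq_zero _).2 ha, map_zero, sub_zero, hk a ha]
  rfl

end InjModLib
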