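import Groth.Agent.InjModLib.Envelope
import Groth.Agent.InjModLib.PrimeBaer
import Groth.Agent.RDerLib.LeftExact
import Groth.Agent.CohCmpLib.HomMod
import Groth.Agent.QCohLib.Coherent
import Groth.Agent.DevissLib.ClosedImm
import Groth.Prelude.Def_DCoh4

/-!
# Injectivity and sheaf Ext
-/

set_option autoImplicit false
set_option backward.isDefEq.respectTransparency false
set_option backward.isDefEq.respectTransparency.types false
set_option linter.style.haveILetI false

universe u

open CategoryTheory CategoryTheory.Limits AlgebraicGeometry TopologicalSpace Opposite MonoidalCategory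
open KFlatLib
open scoped TensorProduct

namespace InjModLib

variable {X : Scheme.{u}}

theorem hom_ext_stalks {M N : X.Modules} (f g : M ⟶ N)
    (h : ∀ (q : X) (z : (DerSch.stalkFunctor X q).obj M),
      ((DerSch.stalkFunctor X q).map f).hom z = ((DerSch.stalkFunctor X q).map g).hom z) : f = g :=
  Scheme.Modules.hom_ext _ _ fun O => ConcreteCategory.hom_ext _ _ fun t =>
    ProjFormLib.section_ext (M := N) _ _ fun q hq =>
      (DerSch.stalkFunctor_map_germ q f O hq t).symm.trans
        ((h q _).trans (DerSch.stalkFunctor_map_germ q g O hq t))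

theorem genGerm_coord (q : X) {W : X.Opens} (hq : q ∈ W) :
    (stalkFreeUIso q hq).hom.hom (genGerm q hq) = (1 : X.presheaf.stalk q) := by
  have h3 := congr($((stalkFreeUIso q hq).inv_hom_id).hom (1 : X.presheaf.stalk q))
  exact (congrArg (stalkFreeUIso q hq).hom.hom (one_smul _ (genGerm q hq)).symm).trans h3

theorem stalk_resU_genGerm {U W : X.Opens} (h : U ≤ W) {q : X} (hq : q ∈ U) :
    ((DerSch.stalkFunctor X q).map (resU h)).hom (genGerm q hq) = genGerm q (h hq) := by
  refine (genGerm_map q hq _).trans ?_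
  have h1 : freeUEquiv U (freeU W) (resU h) = (freeU W).presheaf.map (homOfLE h).op (genU W) :=
    (freeUEquiv U _).apply_symm_apply _
  rw [h1]
  exact TopCat.Presheaf.germ_res_apply (freeU W).presheaf (homOfLE h) q hq (genU W)

/-- The germ of `g ⊗ 1`. -/
noncomputable def theta (G : X.Modules) (q : X) {W : X.Opens} (hq : q ∈ W)
    (g : (DerSch.stalkFunctor X q).obj G) : (DerSch.stalkFunctor X q).obj (tens G (freeU W)) :=
  (stalkTensorIso G (freeU W) q).hom.hom (g ⊗ₜ genGerm q hq)

theorem theta_smul (G : X.Modules) (q : X) {W : X.Opens} (hq : q ∈ W) (a : X.presheaf.stalk q)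
    (g : (DerSch.stalkFunctor X q).obj G) : theta G q hq (a • g) = a • theta G q hq g := by
  rw [theta, theta, ← map_smul, TensorProduct.smul_tmul']

theorem theta_injective (G : X.Modules) (q : X) {W : X.Opens} (hq : q ∈ W) :
    Function.Injective (theta G q hq) := by
  intro a b h
  have h1 := (stalkTensorIso G (freeU W) q).toLinearEquiv.injective h
  let L : ((DerSch.stalkFunctor X q).obj G) ⊗[X.presheaf.stalk q] ((DerSch.stalkFunctor X q).obj (freeU W))
      →ₗ[X.presheaf.stalk q] ((DerSch.stalkFunctor X q).obj G) :=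
    (TensorProduct.rid (X.presheaf.stalk q) _).toLinearMap ∘ₗ
      TensorProduct.map LinearMap.id (stalkFreeUIso q hq).hom.hom
  have h2 := congrArg L h1
  simp only [L, LinearMap.comp_apply, LinearEquiv.coe_coe, TensorProduct.map_tmul, LinearMap.id_apply,
    TensorProduct.rid_tmul] at h2
  have hc := genGerm_coord q hq
  exact (one_smul _ a).symm.trans ((congrArg (· • a) hc).symm.trans
    (h2.trans ((congrArg (· • b) hc).trans (one_smul _ b))))

theorem theta_map {G : X.Modules} {q : X} {U W : X.Opens} (h : U ≤ W) (hq : q ∈ U)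
    (g : (DerSch.stalkFunctor X q).obj G) :
    ((DerSch.stalkFunctor X q).map (((DCoh.tensorBi (X := X)).obj G).map (resU h))).hom
        (theta G q hq g) = theta G q (h hq) g := by
  have e := congr($(stalkTensorIso_natural_right (M := G) q (resU h)).hom (g ⊗ₜ genGerm q hq))
  refine e.symm.trans ?_
  exact congrArg (fun z => (stalkTensorIso G (freeU W) q).hom.hom (g ⊗ₜ z)) (stalk_resU_genGerm h hq)

section Test

variable [IsLocallyNoetherian X] {x : X} {V : X.Opens} (hV : IsAffineOpen V) (hx : x ∈ V)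

/-- A coherent module with a section whose germs have the annihilators of a prime. -/
theorem exists_prime_module (P : Ideal Γ(X, V)) (hP : P.IsPrime) :
    ∃ (G : X.Modules) (e : freeU (⊤ : X.Opens) ⟶ G), Epi e ∧ Coh.IsCoh G ∧
      ∀ (q : X) (hq : q ∈ V) (c : Γ(X, V)),
        X.presheaf.germ V q hq c • ((DerSch.stalkFunctor X q).map e).hom
            (genGerm (U := (⊤ : X.Opens)) q trivial) = 0 ↔
          c ∈ P ∨ ¬ P ≤ (hV.primeIdealOf ⟨q, hq⟩).asIdeal := by
  let pt : PrimeSpectrum Γ(X, V) := ⟨P, hP⟩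
  let y := hV.fromSpec pt
  have hyV : y ∈ V := hV.range_fromSpec.le ⟨pt, rfl⟩
  have hyP : (hV.primeIdealOf ⟨y, hyV⟩).asIdeal = P :=
    congrArg PrimeSpectrum.asIdeal (hV.fromSpec.injective (hV.fromSpec_primeIdealOf ⟨y, hyV⟩))
  let m := IsLocalRing.maximalIdeal (X.presheaf.stalk y)
  let k := ModuleCat.of (X.presheaf.stalk y) (X.presheaf.stalk y ⧸ m)
  haveI : Coh.IsQCoh (skyObj y k) := isQCoh_skyObj y k fun r hr a => by
    obtain ⟨b, rfl⟩ := Submodule.Quotient.mk_surjective m a
    refine ⟨1, ?_⟩
    rw [pow_one]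
    exact (Submodule.Quotient.mk_smul m r b).symm.trans
      ((Submodule.Quotient.mk_eq_zero m).2 (Ideal.mul_mem_right b m hr))
  let one : Γ(skyObj y k, (⊤ : X.Opens)) := skyMk y fun _ => Submodule.Quotient.mk (1 : X.presheaf.stalk y)
  let e₀ : freeU (⊤ : X.Opens) ⟶ skyObj y k := secMap one
  have hfree : Coh.IsCoh (freeU (⊤ : X.Opens)) :=
    QCohLib.isCoh_of_iso (structureIso X).symm (DevissLib.isCoh_structureModule X)
  haveI := hfree.1
  haveI : Coh.IsQCoh (Abelian.image e₀) := QCohLib.isQCoh_image e₀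
  refine ⟨Abelian.image e₀, Abelian.factorThruImage e₀, inferInstance,
    ⟨inferInstance, QCohLib.isFT_of_epi (Abelian.factorThruImage e₀) hfree.2⟩, fun q hq c => ?_⟩
  let g := ((DerSch.stalkFunctor X q).map (Abelian.factorThruImage e₀)).hom
    (genGerm (U := (⊤ : X.Opens)) q trivial)
  let σ : Γ(skyObj y k, V) := c • (skyObj y k).presheaf.map (homOfLE le_top).op one
  have hσ : skyVal y hyV σ = Submodule.Quotient.mk (X.presheaf.germ V y hyV c) := by
    refine (skyVal_smul y hyV c _).trans ?_
    rw [skyVal_map]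
    refine (Submodule.Quotient.mk_smul m _ _).symm.trans ?_
    rw [smul_eq_mul, mul_one]
  have hg : ((DerSch.stalkFunctor X q).map (Abelian.image.ι e₀)).hom (X.presheaf.germ V q hq c • g) =
      (skyObj y k).presheaf.germ V q hq σ := by
    rw [map_smul]
    refine Eq.trans ?_ (FlatLib.germ_smul_mod (skyObj y k) hq c _).symm
    refine congrArg (_ • ·) ?_
    rw [TopCat.Presheaf.germ_res_apply]
    have h1 : ((DerSch.stalkFunctor X q).map (Abelian.image.ι e₀)).hom g =
        ((DerSch.stalkFunctor X q).map e₀).hom (genGerm (U := (⊤ : X.Opens)) q trivial) := by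
      conv_rhs => rw [← Abelian.image.fac e₀, Functor.map_comp]
      rfl
    refine h1.trans ((genGerm_map q _ e₀).trans ?_)
    exact congrArg _ ((freeUEquiv (⊤ : X.Opens) _).apply_symm_apply one)
  have hiff : X.presheaf.germ V q hq c • g = 0 ↔ (skyObj y k).presheaf.germ V q hq σ = 0 := by
    rw [← hg]
    exact ⟨fun h => by rw [h, map_zero],
      fun h => stalk_injective (Abelian.image.ι e₀) q (h.trans (map_zero _).symm)⟩
  refine hiff.trans ⟨fun h => ?_, fun h => ?_⟩
  · refine or_iff_not_imp_right.2 fun hle => ?_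
    rw [not_not] at hle
    have hspec : y ⤳ q := by
      have h' := ((PrimeSpectrum.le_iff_specializes pt (hV.primeIdealOf ⟨q, hq⟩)).1 hle).map
        hV.fromSpec.continuous
      rwa [hV.fromSpec_primeIdealOf] at h'
    obtain ⟨W, hqW, i₁, i₂, hW⟩ := (skyObj y k).presheaf.germ_eq (U := V) (V := V) q hq hq σ 0
      (h.trans (map_zero _).symm)
    have hyW : y ∈ W := hspec.mem_open W.2 hqW
    have h1 := congrArg (skyVal y hyW) hW
    rw [skyVal_map, skyVal_map, map_zero] at h1
    have h2 : X.presheaf.germ V y hyV c ∈ m := (Submodule.Quotient.mk_eq_zero m).1 (hσ.symm.trans h1)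
    letI : Algebra Γ(X, V) (X.presheaf.stalk y) := (X.presheaf.germ V y hyV).hom.toAlgebra
    haveI := hV.isLocalization_stalk ⟨y, hyV⟩
    exact hyP ▸ (IsLocalization.AtPrime.to_map_mem_maximal_iff (X.presheaf.stalk y)
      (hV.primeIdealOf ⟨y, hyV⟩).asIdeal c).1 h2
  · rcases h with h | h
    · have : σ = 0 := sky_ext y k _ _ fun hy => by
        rw [map_zero]
        refine hσ.trans ((Submodule.Quotient.mk_eq_zero m).2 ?_)
        letI : Algebra Γ(X, V) (X.presheaf.stalk y) := (X.presheaf.germ V y hyV).hom.toAlgebra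
        haveI := hV.isLocalization_stalk ⟨y, hyV⟩
        exact (IsLocalization.AtPrime.to_map_mem_maximal_iff (X.presheaf.stalk y)
          (hV.primeIdealOf ⟨y, hyV⟩).asIdeal c).2 (hyP.symm ▸ h)
      rw [this, map_zero]
    · have hspec : ¬ y ⤳ q := fun hs => h ((PrimeSpectrum.le_iff_specializes pt _).2
        (hV.fromSpec.isOpenEmbedding.isInducing.specializes_iff.1 (by
          rw [hV.fromSpec_primeIdealOf]; exact hs)))
      let O : X.Opens := ⟨(closure {y})ᶜ, isClosed_closure.isOpen_compl⟩
      have hqO : q ∈ O := fun h' => hspec (specializes_iff_mem_closure.2 h')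
      refine Eq.trans ?_ (map_zero ((skyObj y k).presheaf.germ V q hq).hom)
      exact (skyObj y k).presheaf.germ_ext (V ⊓ O) ⟨hq, hqO⟩ (homOfLE inf_le_left) (homOfLE inf_le_left)
        (sky_ext y k _ _ fun h' => absurd (subset_closure (Set.mem_singleton y)) h'.2)

end Test

theorem exists_lift_stalk [IsLocallyNoetherian X] {I C : X.Modules} (π : I ⟶ C) (x : X)
    (hepi : ∀ (G : X.Modules) [DCoh.HasSheafHom G], Coh.IsCoh G → Epi ((DCoh.sheafHom G).map π))
    (p : Ideal (X.presheaf.stalk x)) (hp : p.IsPrime) (c : (DerSch.stalkFunctor X x).obj C)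
    (hc : ∀ a ∈ p, a • c = 0) :
    ∃ i, ((DerSch.stalkFunctor X x).map π).hom i = c ∧ ∀ a ∈ p, a • i = 0 := by
  classical
  obtain ⟨V, hV, hx, -⟩ := Opens.isBasis_iff_nbhd.1 X.isBasis_affineOpens (Opens.mem_top x)
  haveI := IsLocallyNoetherian.component_noetherian (X := X) ⟨V, hV⟩
  letI : Algebra Γ(X, V) (X.presheaf.stalk x) := (X.presheaf.germ V x hx).hom.toAlgebra
  haveI := hV.isLocalization_stalk ⟨x, hx⟩
  let P := p.comap (algebraMap Γ(X, V) (X.presheaf.stalk x))
  have hP : P.IsPrime := Ideal.comap_isPrime _ _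
  obtain ⟨G, e, _, hG, hann⟩ := exists_prime_module hV P hP
  obtain ⟨T, hT⟩ := IsNoetherian.noetherian P
  obtain ⟨W₁, hxW₁, t, rfl⟩ := TopCat.Presheaf.exists_germ_eq C.presheaf (x := x) c
  have hb : ∀ b : T, ∃ (O : X.Opens) (_ : x ∈ O) (h : O ≤ W₁ ⊓ V),
      X.presheaf.map (homOfLE (h.trans inf_le_right)).op b.1 •
        C.presheaf.map (homOfLE (h.trans inf_le_left)).op t = 0 := fun b => by
    have h0 : C.presheaf.germ (W₁ ⊓ V) x ⟨hxW₁, hx⟩
        (X.presheaf.map (homOfLE (inf_le_right : W₁ ⊓ V ≤ V)).op b.1 •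
          C.presheaf.map (homOfLE (inf_le_left : W₁ ⊓ V ≤ W₁)).op t) =
        C.presheaf.germ (W₁ ⊓ V) x ⟨hxW₁, hx⟩ 0 := by
      rw [map_zero]
      refine (FlatLib.germ_smul_mod C _ _ _).trans ?_
      rw [TopCat.Presheaf.germ_res_apply, TopCat.Presheaf.germ_res_apply]
      exact hc _ (show b.1 ∈ P from hT ▸ Submodule.subset_span b.2)
    obtain ⟨O, hO, i₁, i₂, h1⟩ := C.presheaf.germ_eq (U := W₁ ⊓ V) (V := W₁ ⊓ V) x _ _ _ _ h0
    refine ⟨O, hO, i₁.le, ?_⟩
    rw [map_zero, Scheme.Modules.map_smul, ← CommRingCat.comp_apply, ← X.presheaf.map_comp,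
      ← ConcreteCategory.comp_apply, ← C.presheaf.map_comp] at h1
    exact h1
  choose O hO hOle hO0 using hb
  let W : X.Opens := (W₁ ⊓ V) ⊓ Finset.univ.inf O
  have hxW : x ∈ W := by
    refine ⟨⟨hxW₁, hx⟩, ?_⟩
    rw [Opens.coe_finset_inf, Finset.inf_set_eq_iInter]
    exact Set.mem_iInter₂.2 fun b _ => hO b
  have hWV : W ≤ V := inf_le_left.trans inf_le_right
  let tW : Γ(C, W) := C.presheaf.map (homOfLE (inf_le_left.trans inf_le_left : W ≤ W₁)).op t
  -- `P` kills the germs of `t` on `W`
  have hkill : ∀ (q : X) (hq : q ∈ W) (b : Γ(X, V)), b ∈ P →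
      X.presheaf.germ V q (hWV hq) b • (C.presheaf.germ W q hq tW : (DerSch.stalkFunctor X q).obj C) = 0 := by
    intro q hq b hb
    rw [← hT] at hb
    induction hb using Submodule.span_induction with
    | mem b hb =>
      have hqO : q ∈ O ⟨b, hb⟩ := (Finset.inf_le (Finset.mem_univ _) : Finset.univ.inf O ≤ O ⟨b, hb⟩) hq.2
      have h1 := congrArg (C.presheaf.germ (O ⟨b, hb⟩) q hqO) (hO0 ⟨b, hb⟩)
      rw [map_zero] at h1
      refine Eq.trans ?_ ((FlatLib.germ_smul_mod C hqO _ _).symm.trans h1)
      rw [TopCat.Presheaf.germ_res_apply, TopCat.Presheaf.germ_res_apply, TopCat.Presheaf.germ_res_apply]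
    | zero => rw [map_zero, zero_smul]
    | add a b _ _ ha hb => rw [map_add, add_smul, ha, hb, add_zero]
    | smul r a _ ha => rw [smul_eq_mul, map_mul, mul_smul, ha, smul_zero]
  let gen : ∀ q : X, (DerSch.stalkFunctor X q).obj G := fun q =>
    ((DerSch.stalkFunctor X q).map e).hom (genGerm (U := (⊤ : X.Opens)) q trivial)
  let s1 : Γ(G, W) := G.presheaf.map (homOfLE le_top).op (freeUEquiv (⊤ : X.Opens) G e)
  let q' : freeU W ⟶ tens G (freeU W) :=
    secMap (shApp G (freeU W) W
      (tm (DCoh.toP.obj G : PM X.presheaf) (DCoh.toP.obj (freeU W) : PM X.presheaf) s1 (genU W)))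
  have hθ : ∀ (q : X) (hq : q ∈ W),
      ((DerSch.stalkFunctor X q).map q').hom (genGerm q hq) = theta G q hq (gen q) := by
    intro q hq
    refine (genGerm_map q hq q').trans ?_
    rw [show freeUEquiv W (tens G (freeU W)) q' = _ from (freeUEquiv W _).apply_symm_apply _]
    refine ((stalkTensorIso_hom_tmul G (freeU W) q hq s1 (genU W)).symm).trans ?_
    refine congrArg (fun z => (stalkTensorIso G (freeU W) q).hom.hom (z ⊗ₜ genGerm q hq)) ?_
    exact (TopCat.Presheaf.germ_res_apply G.presheaf _ q hq _).trans (genGerm_map q _ e).symm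
  haveI : Epi q' := PerfCompLib.epi_of_stalks _ fun q => by
    refine (ModuleCat.epi_iff_surjective _).2 fun z => ?_
    by_cases hq : q ∈ W
    · obtain ⟨w, rfl⟩ := (stalkTensorIso G (freeU W) q).toLinearEquiv.surjective z
      induction w using TensorProduct.induction_on with
      | zero => exact ⟨0, (map_zero _).trans (map_zero _).symm⟩
      | tmul g b =>
        obtain ⟨v, rfl⟩ := (ModuleCat.epi_iff_surjective ((DerSch.stalkFunctor X q).map e)).1
          inferInstance g
        obtain ⟨a, rfl⟩ := exists_eq_smul_gen (V := (⊤ : X.Opens)) trivial v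
        obtain ⟨a', rfl⟩ := exists_eq_smul_gen hq b
        refine ⟨(a * a') • genGerm q hq, ?_⟩
        rw [map_smul, hθ q hq, mul_smul, ← theta_smul, ← theta_smul]
        change (stalkTensorIso G (freeU W) q).hom.hom ((a • a' • gen q) ⊗ₜ genGerm q hq) =
          (stalkTensorIso G (freeU W) q).hom.hom
            (((DerSch.stalkFunctor X q).map e).hom (a • genGerm _ _) ⊗ₜ (a' • genGerm q hq))
        rw [map_smul, TensorProduct.tmul_smul, TensorProduct.smul_tmul', smul_comm]
      | add u v hu hv =>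
        obtain ⟨a, ha⟩ := hu; obtain ⟨b, hb⟩ := hv
        exact ⟨a + b, (map_add _ a b).trans ((congrArg₂ (· + ·) ha hb).trans (map_add _ u v).symm)⟩
    · have hz : IsZero ((DerSch.stalkFunctor X q).obj (freeU W)) :=
        haveI := subsingleton_stalk_freeU (U := W) hq
        ModuleCat.isZero_of_subsingleton _
      haveI := ModuleCat.subsingleton_of_isZero
        (((tensorLeft ((DerSch.stalkFunctor X q).obj G)).map_isZero hz).of_iso
          (stalkTensorIso G (freeU W) q).symm)
      exact ⟨0, Subsingleton.elim _ _⟩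
  have hfac : kernel.ι q' ≫ secMap tW = 0 := hom_ext_stalks _ _ fun q z => by
    rw [Functor.map_comp, Functor.map_zero]
    change ((DerSch.stalkFunctor X q).map (secMap tW)).hom
      (((DerSch.stalkFunctor X q).map (kernel.ι q')).hom z) = 0
    have h0 : ((DerSch.stalkFunctor X q).map q').hom
        (((DerSch.stalkFunctor X q).map (kernel.ι q')).hom z) = 0 := by
      refine Eq.trans ?_ (show ((DerSch.stalkFunctor X q).map (kernel.ι q' ≫ q')).hom z = 0 by
        rw [kernel.condition, Functor.map_zero]; rfl)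
      rw [Functor.map_comp]; rfl
    by_cases hq : q ∈ W
    · obtain ⟨a, ha⟩ := exists_eq_smul_gen hq (((DerSch.stalkFunctor X q).map (kernel.ι q')).hom z)
      rw [ha, map_smul, hθ q hq, ← theta_smul] at h0
      have h1 : a • gen q = 0 := theta_injective G q hq (h0.trans (by
        rw [← zero_smul (X.presheaf.stalk q) (gen q), theta_smul, zero_smul]))
      rw [ha, map_smul, genGerm_map, show freeUEquiv W C (secMap tW) = tW from
        (freeUEquiv W C).apply_symm_apply tW]
      letI : Algebra Γ(X, V) (X.presheaf.stalk q) := (X.presheaf.germ V q (hWV hq)).hom.toAlgebra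
      haveI := hV.isLocalization_stalk ⟨q, hWV hq⟩
      obtain ⟨b, d, rfl⟩ := IsLocalization.exists_mk'_eq
        (hV.primeIdealOf ⟨q, hWV hq⟩).asIdeal.primeCompl a
      refine (IsLocalization.map_units (X.presheaf.stalk q) d).smul_left_cancel.1 ?_
      rw [smul_zero, ← mul_smul, IsLocalization.mk'_spec']
      have h2 : algebraMap Γ(X, V) (X.presheaf.stalk q) b • gen q = 0 := by
        rw [← IsLocalization.mk'_spec' (X.presheaf.stalk q) b d, mul_smul, h1, smul_zero]
      rcases (hann q (hWV hq) b).1 h2 with hbP | hle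
      · exact hkill q hq b hbP
      · obtain ⟨b', hb'P, hb'q⟩ := SetLike.not_le_iff_exists.1 hle
        have h3 := hkill q hq b' hb'P
        have h4 : (C.presheaf.germ W q hq tW : (DerSch.stalkFunctor X q).obj C) = 0 :=
          (IsLocalization.map_units (X.presheaf.stalk q)
            (⟨b', hb'q⟩ : (hV.primeIdealOf ⟨q, hWV hq⟩).asIdeal.primeCompl)).smul_left_cancel.1
            (h3.trans (smul_zero _).symm)
        rw [h4, smul_zero]
    · haveI := subsingleton_stalk_freeU (U := W) hq
      exact (congrArg _ (Subsingleton.elim _ 0)).trans (map_zero _)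
  let φ : tens G (freeU W) ⟶ C := Abelian.epiDesc q' (secMap tW) hfac
  haveI := CohCmpLib.hasSheafHom G
  haveI := hepi G hG
  let H := DCoh.sheafHom G
  let adj := DCoh.sheafHomAdj G
  let h := adj.homEquiv (freeU W) C φ
  obtain ⟨η, hη⟩ := (ModuleCat.epi_iff_surjective ((DerSch.stalkFunctor X x).map (H.map π))).1
    inferInstance ((H.obj C).presheaf.germ W x hxW (freeUEquiv W _ h))
  obtain ⟨W₂, hxW₂, σ, rfl⟩ := TopCat.Presheaf.exists_germ_eq (H.obj I).presheaf (x := x) η
  have hη' := (DerSch.stalkFunctor_map_germ x (H.map π) W₂ hxW₂ σ).symm.trans hη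
  obtain ⟨W₃, hxW₃, i₂, i₁, h3⟩ := (H.obj C).presheaf.germ_eq x hxW₂ hxW _ _ hη'
  let ψ := (adj.homEquiv (freeU W₂) I).symm (secMap σ)
  let θ₂ := theta G x hxW₂ (gen x)
  refine ⟨((DerSch.stalkFunctor X x).map ψ).hom θ₂, ?_, fun a ha => ?_⟩
  · have hmor : ((DCoh.tensorBi (X := X)).obj G).map (resU i₂.le) ≫ ψ ≫ π =
        ((DCoh.tensorBi (X := X)).obj G).map (resU i₁.le) ≫ φ := by
      apply (adj.homEquiv (freeU W₃) C).injective
      rw [adj.homEquiv_naturality_left, adj.homEquiv_naturality_left, adj.homEquiv_naturality_right,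
        Equiv.apply_symm_apply, resU_comp, resU_comp, freeUEquiv_comp,
        show freeUEquiv W₂ (H.obj I) (secMap σ) = σ from (freeUEquiv W₂ _).apply_symm_apply σ]
      exact congrArg secMap h3
    have h4 := congr(((DerSch.stalkFunctor X x).map $hmor).hom (theta G x hxW₃ (gen x)))
    simp only [Functor.map_comp, ModuleCat.hom_comp, LinearMap.comp_apply] at h4
    rw [theta_map i₂.le, theta_map i₁.le, ← hθ x hxW] at h4
    refine h4.trans ?_
    have h5 := congr(((DerSch.stalkFunctor X x).map $(Abelian.comp_epiDesc q' (secMap tW) hfac)).hom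
      (genGerm x hxW))
    simp only [Functor.map_comp, ModuleCat.hom_comp, LinearMap.comp_apply] at h5
    refine h5.trans ((genGerm_map x hxW _).trans ?_)
    rw [show freeUEquiv W C (secMap tW) = tW from (freeUEquiv W C).apply_symm_apply tW]
    exact TopCat.Presheaf.germ_res_apply C.presheaf _ x hxW t
  · have h1 : a • gen x = 0 := by
      obtain ⟨b, d, rfl⟩ := IsLocalization.exists_mk'_eq (hV.primeIdealOf ⟨x, hx⟩).asIdeal.primeCompl a
      have hbP : b ∈ P := by
        change algebraMap Γ(X, V) (X.presheaf.stalk x) b ∈ p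
        rw [← IsLocalization.mk'_spec' (X.presheaf.stalk x) b d]
        exact p.mul_mem_left _ ha
      refine (IsLocalization.map_units (X.presheaf.stalk x) d).smul_left_cancel.1 ?_
      rw [smul_zero, ← mul_smul, IsLocalization.mk'_spec']
      exact (hann x hx b).2 (Or.inl hbP)
    rw [← map_smul, ← theta_smul, h1, ← zero_smul (X.presheaf.stalk x) (gen x), theta_smul,
      zero_smul, map_zero]

theorem injective_iff_sheafExt [IsLocallyNoetherian X] [HasInjectiveResolutions X.Modules]
    (F : X.Modules) [Coh.IsQCoh F] :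
    Injective F ↔ ∀ (G : X.Modules) [DCoh.HasSheafHom G] [(DCoh.sheafHom G).Additive],
      Coh.IsCoh G → IsZero (((DCoh.sheafHom G).rightDerived 1).obj F) := by
  refine ⟨fun h G _ _ _ => haveI := h; Functor.isZero_rightDerived_obj_injective_succ _ 0 F, fun h => ?_⟩
  obtain ⟨I, m, _, hI, hIi⟩ := exists_injective_qcoh_envelope F
  let S := ShortComplex.mk m (cokernel.π m) (cokernel.condition m)
  have hS : S.ShortExact :=
    { exact := ShortComplex.exact_of_g_is_cokernel _ (cokernelIsCokernel m) }
  have hepi : ∀ (G : X.Modules) [DCoh.HasSheafHom G], Coh.IsCoh G →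
      Epi ((DCoh.sheafHom G).map (cokernel.π m)) := fun G _ hG => by
    haveI : (DCoh.sheafHom G).Additive := (DCoh.sheafHomAdj G).right_adjoint_additive
    haveI : PreservesFiniteLimits (DCoh.sheafHom G) :=
      have := (DCoh.sheafHomAdj G).rightAdjoint_preservesLimits.{0, 0}
      PreservesLimitsOfSize.preservesFiniteLimits _
    exact (Groth.Agent.RDerLib.epi_map_g_iff _).1 (Groth.Agent.RDerLib.epi_map_g hS 0 (h G hG))
  refine injective_iff_stalks F fun x => ?_
  haveI : Module.Injective (X.presheaf.stalk x) ((DerSch.stalkFunctor X x).obj I) :=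
    stalk_injective_of_injective I x
  have hSx := hS.map_of_exact (DerSch.stalkFunctor X x)
  exact injective_of_lift_primes ((DerSch.stalkFunctor X x).map m).hom
    ((DerSch.stalkFunctor X x).map (cokernel.π m)).hom (stalk_injective m x)
    ((ShortComplex.ShortExact.moduleCat_exact_iff_function_exact _).1 hSx.exact)
    fun p hp c hc => exists_lift_stalk (cokernel.π m) x hepi p hp c hc

end InjModLib
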