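import Groth.Agent.InjModLib.Stalk
import Groth.Agent.QCohLib.QCoh
import Groth.Agent.QCohLib.Push

/-!
# Sections with support of injective quasi-coherent modules
-/

set_option autoImplicit false
set_option backward.isDefEq.respectTransparency false
set_option backward.isDefEq.respectTransparency.types false
set_option linter.style.haveILetI false

universe u

open CategoryTheory CategoryTheory.Limits AlgebraicGeometry TopologicalSpace Opposite

namespace InjModLib

variable {U X : Scheme.{u}} (j : U ⟶ X) [IsOpenImmersion j]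

theorem unit_app_bijective (F : X.Modules) {O : X.Opens} (hO : O ≤ j.opensRange) :
    Function.Bijective (((Scheme.Modules.restrictAdjunction j).unit.app F).app O) := by
  have e : j ''ᵁ j ⁻¹ᵁ O = O := by
    rw [Scheme.Hom.image_preimage_eq_opensRange_inf, inf_eq_right.2 hO]
  have e' : (homOfLE (j.image_preimage_le O)) = eqToHom e := Subsingleton.elim _ _
  haveI : IsIso (F.presheaf.map (homOfLE (j.image_preimage_le O)).op) := by
    rw [e']; infer_instance
  exact ConcreteCategory.bijective_of_isIso (F.presheaf.map (homOfLE (j.image_preimage_le O)).op)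

theorem unit_app_eq_zero_iff (F : X.Modules) (V : X.Opens) (s : Γ(F, V)) :
    ((Scheme.Modules.restrictAdjunction j).unit.app F).app V s = 0 ↔
      ∀ y ∈ j.opensRange, ∀ hy : y ∈ V, F.presheaf.germ V y hy s = 0 := by
  constructor
  · intro h y hy hyV
    have h1 := congrArg (F.presheaf.germ (j ''ᵁ j ⁻¹ᵁ V) y (by
      rw [Scheme.Hom.image_preimage_eq_opensRange_inf]; exact ⟨hy, hyV⟩)) h
    exact (TopCat.Presheaf.germ_res_apply F.presheaf (homOfLE (j.image_preimage_le V)) y _ s).symm.trans
      (h1.trans (map_zero _))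
  · intro h
    change (F.presheaf.map (homOfLE (j.image_preimage_le V)).op s : Γ(F, j ''ᵁ j ⁻¹ᵁ V)) = 0
    refine ProjFormLib.section_ext (M := F) _ _ fun y hy => ?_
    have hy' := hy
    rw [Scheme.Hom.image_preimage_eq_opensRange_inf] at hy'
    exact (TopCat.Presheaf.germ_res_apply F.presheaf _ y hy s).trans
      ((h y hy'.1 hy'.2).trans (map_zero (F.presheaf.germ (j ''ᵁ j ⁻¹ᵁ V) y hy).hom).symm)

theorem injective_gammaZ [IsNoetherian X] (I : X.Modules) [Coh.IsQCoh I] [Injective I] :
    Injective ((DCoh.gammaZ j).obj I) := by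
  haveI : Coh.IsQCoh ((Scheme.Modules.restrictFunctor j).obj I) :=
    haveI := KFlatLib.isQCoh_pullback j I
    QCohLib.isQCoh_of_iso ((Scheme.Modules.restrictFunctorIsoPullback j).app I).symm
  haveI : Coh.IsQCoh ((Scheme.Modules.restrictFunctor j ⋙ Scheme.Modules.pushforward j).obj I) :=
    QCohLib.isQCoh_pushforward j _
  haveI : Coh.IsQCoh ((DCoh.gammaZ j).obj I) :=
    QCohLib.isQCoh_kernel (M := I) ((Scheme.Modules.restrictAdjunction j).unit.app I)
  refine injective_of_sections _ fun V => ?_
  obtain ⟨V, hV⟩ := V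
  haveI := IsLocallyNoetherian.component_noetherian (X := X) ⟨V, hV⟩
  let C : Set (PrimeSpectrum Γ(X, V)) := hV.fromSpec ⁻¹' (j.opensRange : Set X)ᶜ
  let J := PrimeSpectrum.vanishingIdeal C
  have hC : IsClosed C := j.opensRange.isOpen.isClosed_compl.preimage hV.fromSpec.continuous
  have hCJ : PrimeSpectrum.zeroLocus (J : Set Γ(X, V)) = C := by
    rw [PrimeSpectrum.zeroLocus_vanishingIdeal_eq_closure, hC.closure_eq]
  have hInj := InjHullLib.injective_torsionPart (sections_injective I hV) J
  let ι := kernel.ι ((Scheme.Modules.restrictAdjunction j).unit.app I)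
  let S := ShortComplex.mk ι ((Scheme.Modules.restrictAdjunction j).unit.app I) (kernel.condition _)
  let L : Γ((DCoh.gammaZ j).obj I, V) →ₗ[Γ(X, V)] Γ(I, V) :=
    { toFun := fun m => ι.app V m
      map_add' := map_add _
      map_smul' := fun r m => Scheme.Modules.Hom.app_smul ι r m }
  have hL : Function.Injective L := QCohLib.app_injective_of_mono ι V
  have key : ∀ s : Γ(I, V), ((Scheme.Modules.restrictAdjunction j).unit.app I).app V s = 0 ↔
      s ∈ InjHullLib.torsionPart J Γ(I, V) := fun s => by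
    rw [unit_app_eq_zero_iff, InjHullLib.mem_torsionPart]
    constructor
    · intro h
      let A : Ideal Γ(X, V) := LinearMap.ker (LinearMap.toSpanSingleton Γ(X, V) Γ(I, V) s)
      have hle : J ≤ A.radical := fun a ha => by
        rw [Ideal.radical_eq_sInf, Submodule.mem_sInf]
        rintro P ⟨hAP, hP⟩
        by_contra haP
        let y := hV.fromSpec ⟨P, hP⟩
        have hyV : y ∈ V := hV.range_fromSpec.le ⟨⟨P, hP⟩, rfl⟩
        have hyj : y ∈ j.opensRange := by
          by_contra hy
          exact haP ((PrimeSpectrum.mem_vanishingIdeal _ _).1 ha ⟨P, hP⟩ hy)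
        letI := Module.compHom (I.presheaf.stalk y) (X.presheaf.germ V y hyV).hom
        haveI := FlatLib.isLocalizedModule_germLin I hV hyV
        have hP' : (hV.primeIdealOf ⟨y, hyV⟩).asIdeal = P :=
          congrArg PrimeSpectrum.asIdeal (hV.fromSpec.injective (hV.fromSpec_primeIdealOf ⟨y, hyV⟩))
        obtain ⟨c, hc⟩ := (IsLocalizedModule.eq_zero_iff (hV.primeIdealOf ⟨y, hyV⟩).asIdeal.primeCompl
          (FlatLib.germLin I hyV)).1 (h y hyj hyV)
        exact (show c.1 ∉ P from hP' ▸ c.2) (hAP hc)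
      obtain ⟨n, hn⟩ := Ideal.exists_pow_le_of_le_radical_of_fg hle (IsNoetherian.noetherian J)
      exact ⟨n, fun a ha => hn ha⟩
    · rintro ⟨n, hn⟩ y hyj hyV
      letI := Module.compHom (I.presheaf.stalk y) (X.presheaf.germ V y hyV).hom
      haveI := FlatLib.isLocalizedModule_germLin I hV hyV
      have hJ : ¬ J ≤ (hV.primeIdealOf ⟨y, hyV⟩).asIdeal := fun hle => by
        have h1 : hV.primeIdealOf ⟨y, hyV⟩ ∈ C := hCJ.le ((PrimeSpectrum.mem_zeroLocus _ _).2 hle)
        exact h1 (by change hV.fromSpec _ ∈ j.opensRange; rw [hV.fromSpec_primeIdealOf]; exact hyj)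
      obtain ⟨a, ha, haP⟩ := SetLike.not_le_iff_exists.1 hJ
      exact (IsLocalizedModule.eq_zero_iff (hV.primeIdealOf ⟨y, hyV⟩).asIdeal.primeCompl
        (FlatLib.germLin I hyV)).2 ⟨⟨a ^ n, pow_mem (show a ∈ _ from haP) n⟩,
          hn _ (Ideal.pow_mem_pow ha n)⟩
  have hmem : ∀ m, L m ∈ InjHullLib.torsionPart J Γ(I, V) := fun m => (key _).1
    (congr($(kernel.condition ((Scheme.Modules.restrictAdjunction j).unit.app I)).app V m))
  let e : Γ((DCoh.gammaZ j).obj I, V) ≃ₗ[Γ(X, V)] InjHullLib.torsionPart J Γ(I, V) :=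
    LinearEquiv.ofBijective (L.codRestrict _ hmem)
      ⟨fun a b h => hL (congrArg Subtype.val h), fun s => by
        obtain ⟨m, hm⟩ := QCohLib.exists_of_app_eq_zero (S := S)
          (ShortComplex.exact_of_f_is_kernel _ (kernelIsKernel _)) (equalizer.ι_mono : Mono ι)
          s.1 ((key _).2 s.2)
        exact ⟨m, Subtype.ext hm⟩⟩
  exact InjHullLib.injective_of_equiv hInj e.symm

end InjModLib
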