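import Groth.Agent.InjModLib.SkySub

/-!
# Injective quasi-coherent envelopes on locally Noetherian schemes
-/

set_option autoImplicit false
set_option backward.isDefEq.respectTransparency false
set_option backward.isDefEq.respectTransparency.types false
set_option linter.style.haveILetI false

universe u

open CategoryTheory CategoryTheory.Limits AlgebraicGeometry TopologicalSpace Opposite
open KFlatLib

namespace InjModLib

variable {X : Scheme.{u}}

open CoproductsFromFiniteFiltered in
/-- A map out of a coproduct is a monomorphism if it is one on every finite stage. -/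
theorem mono_sigma_of_finite [IsLocallyNoetherian X] {α : Type u} (F : α → X.Modules) {I : X.Modules}
    (σ : ∐ F ⟶ I)
    (h : ∀ T : Finset (Discrete α), Mono ((finiteSubcoproductsCocone F).ι.app T ≫ σ)) : Mono σ := by
  haveI := isGrothendieckAbelian_modules (X := X)
  haveI : ∀ T : Finset (Discrete α), Mono ((finiteSubcoproductsCocone F).ι.app T) := fun T =>
    haveI := h T; mono_of_mono _ σ
  haveI := NatTrans.mono_of_mono_app (finiteSubcoproductsCocone F).ι
  refine Preadditive.mono_of_cancel_zero _ fun {Z} g hg => ?_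
  refine hom_ext_of_basis (fun V : X.affineOpens => (V : X.Opens)) basis_affine g 0 fun V a => ?_
  haveI := isNoetherianObject_freeU' V
  obtain ⟨T, l, hl⟩ := exists_factor (isColimitFiniteSubproductsCocone F) (a ≫ g)
  haveI := h T
  have hl0 : l = 0 := (cancel_mono ((finiteSubcoproductsCocone F).ι.app T ≫ σ)).1 (by
    rw [← Category.assoc, hl, Category.assoc, hg, comp_zero, zero_comp])
  rw [← hl, hl0, zero_comp, comp_zero]

section Decomposition

variable (I : X.Modules) [IsGrothendieckAbelian.{u} X.Modules]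

/-- The subobjects of `I`, in the universe of its sections. -/
abbrev SubIdx : Type u := Shrink.{u} (Subobject I)

/-- The subobject attached to an index. -/
noncomputable abbrev subOf (a : SubIdx I) : Subobject I := (equivShrink (Subobject I)).symm a

/-- The map out of the coproduct of a set of subobjects. -/
noncomputable abbrev subDesc (S : Set (SubIdx I)) : (∐ fun a : S => (subOf I a.1 : X.Modules)) ⟶ I :=
  Sigma.desc fun a => (subOf I a.1).arrow

open CoproductsFromFiniteFiltered in
/-- An injective module splits off a maximal direct sum of submodules with a given property. -/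
theorem exists_maximal_sum [IsLocallyNoetherian X] [Injective I] (Pr : X.Modules → Prop)
    (hiso : ∀ {A B : X.Modules}, (A ≅ B) → Pr A → Pr B) (hinj : ∀ A, Pr A → Injective A) :
    ∃ (κ : Type u) (F : κ → X.Modules) (σ : ∐ F ⟶ I) (r : I ⟶ ∐ F), σ ≫ r = 𝟙 _ ∧
      (∀ a, Pr (F a) ∧ ¬ IsZero (F a)) ∧
      ∀ (P : X.Modules) (ψ : P ⟶ I), Mono ψ → Pr P → ψ ≫ r = 0 → IsZero P := by
  classical
  let good : Set (Set (SubIdx I)) := {S | (∀ a ∈ S, Pr (subOf I a) ∧ ¬ IsZero (subOf I a : X.Modules)) ∧
    Mono (subDesc I S)}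
  obtain ⟨S, hS⟩ : ∃ S, Maximal (· ∈ good) S := by
    refine zorn_subset good fun c hc hchain => ?_
    by_cases hne : c.Nonempty
    swap
    · refine ⟨∅, ⟨fun a ha => absurd ha (Set.notMem_empty a), ?_⟩, fun s hs => absurd ⟨s, hs⟩ hne⟩
      refine Preadditive.mono_of_cancel_zero _ fun g _ => IsZero.eq_of_tgt ?_ _ _
      exact (IsZero.iff_id_eq_zero _).2 (Sigma.hom_ext _ _ fun a => absurd a.2 (Set.notMem_empty _))
    refine ⟨⋃₀ c, ⟨fun a ha => ?_, mono_sigma_of_finite _ _ fun T => ?_⟩,
      fun s hs => Set.subset_sUnion_of_mem hs⟩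
    · obtain ⟨s, hs, has⟩ := ha
      exact (hc hs).1 a has
    · obtain ⟨s, hs, hT⟩ : ∃ s ∈ c, ∀ x ∈ T, x.as.1 ∈ s := by
        induction T using Finset.induction_on with
        | empty => exact ⟨hne.some, hne.some_mem, fun x hx => absurd hx (Finset.notMem_empty x)⟩
        | insert x T _ ih =>
          obtain ⟨s, hs, hsT⟩ := ih
          obtain ⟨t, ht, hxt⟩ := x.as.2
          rcases hchain.total hs ht with h | h
          · exact ⟨t, ht, fun z hz => (Finset.mem_insert.1 hz).elim (fun e => e ▸ hxt)
              fun hz => h (hsT z hz)⟩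
          · exact ⟨s, hs, fun z hz => (Finset.mem_insert.1 hz).elim (fun e => e ▸ h hxt)
              fun hz => hsT z hz⟩
      let G := fun a : ⋃₀ c => (subOf I a.1 : X.Modules)
      let G' := fun a : s => (subOf I a.1 : X.Modules)
      let lT : (liftToFinsetObj (Discrete.functor G)).obj T ⟶ ∐ G' :=
        Sigma.desc fun x => Sigma.ι G' ⟨x.1.as.1, hT x.1 x.2⟩
      let rT : ∐ G' ⟶ (liftToFinsetObj (Discrete.functor G)).obj T :=
        Sigma.desc fun a =>
          if ha : (⟨⟨a.1, s, hs, a.2⟩⟩ : Discrete (⋃₀ c)) ∈ T then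
            Sigma.ι (fun x : T => (Discrete.functor G).obj x.1) ⟨_, ha⟩ else 0
      haveI : Mono lT := (SplitMono.mk (f := lT) rT (Sigma.hom_ext _ _ fun x => by
        obtain ⟨⟨⟨a, ha⟩⟩, hx⟩ := x
        dsimp [lT, rT, G, G']
        erw [colimit.ι_desc_assoc]
        dsimp
        erw [colimit.ι_desc]
        simp [dif_pos hx]
        exact (Category.comp_id _).symm)).mono
      haveI := (hc hs).2
      have e : (finiteSubcoproductsCocone G).ι.app T ≫ subDesc I (⋃₀ c) = lT ≫ subDesc I s := by
        refine Sigma.hom_ext _ _ fun x => ?_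
        dsimp [finiteSubcoproductsCocone, lT, G, G', subDesc]
        erw [colimit.ι_desc_assoc, colimit.ι_desc_assoc]
        dsimp
        erw [colimit.ι_desc, colimit.ι_desc]
        rfl
      rw [e]
      infer_instance
  haveI := hS.1.2
  let G := fun a : S => (subOf I a.1 : X.Modules)
  haveI : Injective (∐ G) := injective_sigma G fun a => hinj _ (hS.1.1 a.1 a.2).1
  let r := Injective.factorThru (𝟙 (∐ G)) (subDesc I S)
  have hr : subDesc I S ≫ r = 𝟙 _ := Injective.comp_factorThru _ _
  refine ⟨S, G, subDesc I S, r, hr, fun a => hS.1.1 a.1 a.2, fun P ψ _ hP hψ => by_contra fun hnz => ?_⟩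
  let p : SubIdx I := equivShrink (Subobject I) (Subobject.mk ψ)
  let e : (subOf I p : X.Modules) ≅ P :=
    Subobject.isoOfEq _ _ (Equiv.symm_apply_apply _ _) ≪≫ Subobject.underlyingIso ψ
  have he : e.hom ≫ ψ = (subOf I p).arrow := by
    simp [e]
  have hpPr : Pr (subOf I p) := hiso e.symm hP
  have hpz : ¬ IsZero (subOf I p : X.Modules) := fun h => hnz (h.of_iso e.symm)
  have hpr : (subOf I p).arrow ≫ r = 0 := by rw [← he, Category.assoc, hψ, comp_zero]
  have hpS : p ∉ S := fun h => hpz ((IsZero.iff_id_eq_zero _).2 (by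
    have h1 : Sigma.ι G ⟨p, h⟩ = (subOf I p).arrow ≫ r := by
      rw [← Category.comp_id (Sigma.ι G ⟨p, h⟩), ← hr, Sigma.ι_desc_assoc]
    rw [hpr] at h1
    haveI : Mono (Sigma.ι G ⟨p, h⟩ ≫ subDesc I S) := by rw [Sigma.ι_desc]; infer_instance
    exact (cancel_mono (Sigma.ι G ⟨p, h⟩ ≫ subDesc I S)).1 (by simp [h1])))
  let S' := insert p S
  let G' := fun a : S' => (subOf I a.1 : X.Modules)
  let inc : ∐ G ⟶ ∐ G' := Sigma.desc fun a => Sigma.ι G' ⟨a.1, Set.mem_insert_of_mem p a.2⟩
  haveI := hinj _ hpPr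
  let ρ := Injective.factorThru (𝟙 (subOf I p : X.Modules)) (subOf I p).arrow
  have hρ : (subOf I p).arrow ≫ ρ = 𝟙 _ := Injective.comp_factorThru _ _
  let r' : I ⟶ ∐ G' := r ≫ inc + (𝟙 I - r ≫ subDesc I S) ≫ ρ ≫ Sigma.ι G' ⟨p, Set.mem_insert p S⟩
  have hr' : subDesc I S' ≫ r' = 𝟙 _ := by
    refine Sigma.hom_ext _ _ fun a => ?_
    rw [Sigma.ι_desc_assoc, Category.comp_id]
    obtain ⟨a, rfl | ha⟩ := a
    · simp only [r', Preadditive.comp_add, Preadditive.sub_comp, Preadditive.comp_sub,
        Category.id_comp, Category.assoc, reassoc_of% hpr, zero_comp, zero_add, sub_zero,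
        reassoc_of% hρ]
      rfl
    · have h1 : (subOf I a).arrow ≫ r = Sigma.ι G ⟨a, ha⟩ := by
        rw [← Category.comp_id (Sigma.ι G ⟨a, ha⟩), ← hr, Sigma.ι_desc_assoc]
      simp only [r', Preadditive.comp_add, Preadditive.sub_comp, Preadditive.comp_sub,
        Category.id_comp, Category.assoc, reassoc_of% h1]
      rw [Sigma.ι_desc, Sigma.ι_desc_assoc, sub_self, add_zero]
  have hgood : S' ∈ good := ⟨fun a ha => ha.elim (fun e => e ▸ ⟨hpPr, hpz⟩) (hS.1.1 a),
    (SplitMono.mk r' hr').mono⟩
  exact hpS (hS.2 hgood (Set.subset_insert p S) (Set.mem_insert p S))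

end Decomposition

/-- Every quasi-coherent module embeds in a quasi-coherent injective module. -/
theorem exists_injective_qcoh_envelope [IsLocallyNoetherian X] (M : X.Modules) [Coh.IsQCoh M] :
    ∃ (J : X.Modules) (m : M ⟶ J), Mono m ∧ Coh.IsQCoh J ∧ Injective J := by
  haveI := isGrothendieckAbelian_modules (X := X)
  haveI : EnoughInjectives X.Modules := IsGrothendieckAbelian.enoughInjectives.{u}
  let I := Injective.under M
  obtain ⟨κ, F, σ, r, hr, hF, hmax⟩ := exists_maximal_sum I (fun A => Coh.IsQCoh A ∧ Injective A)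
    (fun e h => ⟨haveI := h.1; QCohLib.isQCoh_of_iso e, Injective.of_iso e h.2⟩) fun A h => h.2
  haveI : Coh.IsQCoh (∐ F) := QCohLib.isQCoh_sigma F fun a => (hF a).1.1
  refine ⟨∐ F, Injective.ι M ≫ r, ?_, inferInstance, injective_sigma F fun a => (hF a).1.2⟩
  refine Preadditive.mono_of_isZero_kernel _ (by_contra fun hK => ?_)
  haveI : Coh.IsQCoh (kernel (Injective.ι M ≫ r)) := QCohLib.isQCoh_kernel _
  let π : I ⟶ kernel r := kernel.lift r (𝟙 I - r ≫ σ) (by
    rw [Preadditive.sub_comp, Category.assoc, hr, Category.id_comp, Category.comp_id, sub_self])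
  haveI : Injective (kernel r) :=
    (Retract.mk (kernel.ι r) π (by
      rw [← cancel_mono (kernel.ι r)]
      simp [π])).injective
  let incl : kernel (Injective.ι M ≫ r) ⟶ kernel r :=
    kernel.lift r (kernel.ι _ ≫ Injective.ι M) (by rw [Category.assoc, kernel.condition])
  haveI : Mono incl := by
    haveI : Mono (incl ≫ kernel.ι r) := by rw [kernel.lift_ι]; infer_instance
    exact mono_of_mono incl (kernel.ι r)
  obtain ⟨P, ψ, _, hP, hPi, hPz⟩ := exists_qcoh_injective_sub incl hK
  exact hPz (hmax P (ψ ≫ kernel.ι r) inferInstance ⟨hP, hPi⟩ (by simp))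

/-- Injective objects of quasi-coherent modules are injective modules. -/
theorem injective_of_injective_qcoh [IsLocallyNoetherian X]
    (J : ObjectProperty.FullSubcategory (fun M : X.Modules => Coh.IsQCoh M)) (hJ : Injective J) :
    Injective J.obj := by
  haveI := hJ
  haveI := J.property
  obtain ⟨I, m, _, hI, hIi⟩ := exists_injective_qcoh_envelope J.obj
  let F := ObjectProperty.ι (fun M : X.Modules => Coh.IsQCoh M)
  let m' : J ⟶ ⟨I, hI⟩ := ObjectProperty.homMk m
  haveI : Mono m' := F.mono_of_mono_map (show Mono m by infer_instance)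
  let rr := Injective.factorThru (𝟙 J) m'
  exact (Retract.mk m rr.hom
    (congrArg F.map (Injective.comp_factorThru (𝟙 J) m'))).injective

end InjModLib
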