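import Groth.Agent.InjModLib.Noeth
import Groth.Agent.PerfCompLib.Base

/-!
# Extension by zero of the structure sheaf along an open immersion
-/

set_option autoImplicit false
set_option backward.isDefEq.respectTransparency false
set_option backward.isDefEq.respectTransparency.types false
set_option linter.style.haveILetI false

universe u

open CategoryTheory CategoryTheory.Limits AlgebraicGeometry TopologicalSpace Opposite
open KFlatLib

namespace InjModLib

variable {U X : Scheme.{u}} (j : U ⟶ X) [IsOpenImmersion j]

/-- Extensions by zero of the structure sheaf corepresent sections on the image. -/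
noncomputable def extJHomEquiv (M : X.Modules) :
    (CxOX.extZeroUnit j ⟶ M) ≃ Γ(M, j ''ᵁ ⊤) :=
  ((CxOX.extZeroAdj j).homEquiv _ _).trans
    (((structureIso U).symm.homCongr (Iso.refl _)).trans
      (freeUEquiv ⊤ ((Scheme.Modules.restrictFunctor j).obj M)))

/-- `j_! O_U` is the free module on the image of `j`. -/
noncomputable def extJIso : CxOX.extZeroUnit j ≅ freeU j.opensRange :=
  ModSiteLib.isoOfHomEquiv
    (fun M => (extJHomEquiv j M).trans (freeUEquiv (j ''ᵁ ⊤) M).symm)
    (fun {M N} a p => (freeUEquiv (j ''ᵁ ⊤) N).injective (by
      simp only [Equiv.trans_apply, freeUEquiv_comp, Equiv.apply_symm_apply]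
      simp only [extJHomEquiv, Equiv.trans_apply, Adjunction.homEquiv_naturality_right,
        Iso.homCongr_apply, Iso.refl_hom, Category.comp_id, ← Category.assoc,
        freeUEquiv_comp]
      rfl)) ≪≫
    eqToIso (congrArg freeU j.image_top_eq_opensRange)

theorem extZeroUnit_chain_stationary [IsLocallyNoetherian X] [IsAffine U]
    (c : ℕ →o Subobject (CxOX.extZeroUnit j)) : ∃ n : ℕ, ∀ m : ℕ, n ≤ m → c n = c m := by
  haveI := isNoetherianObject_freeU' (X := X) ⟨j.opensRange, isAffineOpen_opensRange j⟩
  haveI : IsNoetherianObject (CxOX.extZeroUnit j) := isNoetherianObject_of_mono (extJIso j).hom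
  exact WellFoundedGT.monotone_chain_condition c

end InjModLib
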