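import Groth.Agent.InjModLib.Stalk
import Groth.Agent.TildeDerLib.Push
import Groth.Agent.QCohLib.Push

/-!
# Direct images from local rings
-/

set_option autoImplicit false
set_option backward.isDefEq.respectTransparency false
set_option backward.isDefEq.respectTransparency.types false
set_option linter.style.haveILetI false

universe u

open CategoryTheory CategoryTheory.Limits AlgebraicGeometry TopologicalSpace Opposite

namespace InjModLib

variable {X : Scheme.{u}} [IsLocallyNoetherian X]

theorem push_fromSpecStalk (x : X) (E : ModuleCat.{u} (X.presheaf.stalk x))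
    [Module.Injective (X.presheaf.stalk x) E] :
    Injective ((Scheme.Modules.pushforward (X.fromSpecStalk x)).obj (tilde E)) ∧
      Coh.IsQCoh ((Scheme.Modules.pushforward (X.fromSpecStalk x)).obj (tilde E)) := by
  obtain ⟨U, hU, hx, -⟩ := Opens.isBasis_iff_nbhd.1 X.isBasis_affineOpens (Opens.mem_top x)
  haveI := IsLocallyNoetherian.component_noetherian (X := X) ⟨U, hU⟩
  let φ := X.presheaf.germ U x hx
  let N := (ModuleCat.restrictScalars.{u} φ.hom).obj E
  letI : Algebra Γ(X, U) (X.presheaf.stalk x) := φ.hom.toAlgebra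
  haveI := hU.isLocalization_stalk ⟨x, hx⟩
  haveI : Module.Flat Γ(X, U) (X.presheaf.stalk x) :=
    IsLocalization.flat _ (hU.primeIdealOf ⟨x, hx⟩).asIdeal.primeCompl
  letI : Module Γ(X, U) E := Module.compHom E φ.hom
  haveI : IsScalarTower Γ(X, U) (X.presheaf.stalk x) E := IsScalarTower.of_algebraMap_smul fun _ _ => rfl
  haveI : Module.Injective Γ(X, U) N :=
    InjHullLib.injective_restrictScalars (X.presheaf.stalk x) (E := E) ‹_›
  haveI : IsNoetherianRing Γ(X, U) := ‹_›
  haveI hi := injective_tilde N
  obtain ⟨θ⟩ := TildeDerLib.nonempty_pushTildeIso φ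
  let e : (Scheme.Modules.pushforward hU.fromSpec).obj (tilde N) ≅
      (Scheme.Modules.pushforward (X.fromSpecStalk x)).obj (tilde E) :=
    (Scheme.Modules.pushforward hU.fromSpec).mapIso (θ.app E).symm ≪≫
      (Scheme.Modules.pushforwardComp (Spec.map φ) hU.fromSpec).app (tilde E) ≪≫
      (Scheme.Modules.pushforwardCongr
        (show Spec.map φ ≫ hU.fromSpec = X.fromSpecStalk x from hU.fromSpecStalk_eq_fromSpecStalk hx)).app _
  refine ⟨Injective.of_iso e
    (Injective.injective_of_adjoint (Scheme.Modules.restrictAdjunction hU.fromSpec) (tilde N)), ?_⟩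
  haveI : Coh.IsQCoh (tilde N) := inferInstanceAs ((tilde N).IsQuasicoherent)
  haveI := QCohLib.isQCoh_pushforward hU.fromSpec (tilde N)
  exact QCohLib.isQCoh_of_iso e

end InjModLib
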