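import Groth.Agent.InjModLib.Envelope
import Groth.Agent.GrothTransLib.Noeth

/-!
# Indecomposable injective modules on locally Noetherian schemes
-/

set_option autoImplicit false
set_option backward.isDefEq.respectTransparency false
set_option backward.isDefEq.respectTransparency.types false
set_option linter.style.haveILetI false

universe w v u

open CategoryTheory CategoryTheory.Limits

namespace InjModLib

variable {C : Type u} [Category.{v} C] [Abelian C] [IsGrothendieckAbelian.{w} C]

/-- Complements exist. -/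
theorem exists_complement {M Q : C} (p : M ⟶ Q) (A₀ : Subobject M) [Mono (A₀.arrow ≫ p)] :
    ∃ K : Subobject M, A₀ ≤ K ∧ Maximal (fun A : Subobject M => Mono (A.arrow ≫ p)) K := by
  refine zorn_le_nonempty₀ {A : Subobject M | Mono (A.arrow ≫ p)} (fun c hc hchain y hy => ?_) A₀
    (show Mono (A₀.arrow ≫ p) by infer_instance)
  let J := Shrink.{w} c
  letI : Preorder J := Preorder.lift fun j => ((equivShrink c).symm j).1
  letI : SmallCategory J := Preorder.smallCategory J
  haveI : Nonempty J := ⟨equivShrink c ⟨y, hy⟩⟩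
  haveI : IsDirectedOrder J := ⟨fun i j => by
    rcases hchain.total ((equivShrink c).symm i).2 ((equivShrink c).symm j).2 with h | h
    · exact ⟨j, h, le_refl _⟩
    · exact ⟨i, le_refl _, h⟩⟩
  haveI := IsGrothendieckAbelian.hasColimits (C := C)
  let A : J → Subobject M := fun j => ((equivShrink c).symm j).1
  haveI : ∀ j, Mono ((A j).arrow ≫ p) := fun j => hc ((equivShrink c).symm j).2
  let F : J ⥤ MonoOver M :=
    { obj := fun j => MonoOver.mk (A j).arrow
      map := fun {i j} h => MonoOver.homMk (Subobject.ofLE (A i) (A j) (show i ≤ j from leOfHom h)) }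
  let F' : J ⥤ MonoOver Q :=
    { obj := fun j => MonoOver.mk ((A j).arrow ≫ p)
      map := fun {i j} h => MonoOver.homMk (Subobject.ofLE (A i) (A j) (show i ≤ j from leOfHom h)) (by simp [MonoOver.arrow]) }
  let D := F ⋙ MonoOver.forget _ ⋙ Over.forget _
  let co : Cocone D :=
    { pt := M
      ι := { app := fun j => (A j).arrow
             naturality := fun i j h => by simp [D, F, MonoOver.forget] } }
  let f := colimit.desc D co
  haveI : Mono f := IsGrothendieckAbelian.mono_of_isColimit_monoOver F (colimit.isColimit D) f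
    fun j => colimit.ι_desc co j
  haveI : Mono (f ≫ p) :=
    IsGrothendieckAbelian.mono_of_isColimit_monoOver F' (c := colimit.cocone D) (colimit.isColimit D)
      (f ≫ p) fun j => by
        dsimp [F', MonoOver.mk]
        rw [← Category.assoc, colimit.ι_desc]
  refine ⟨Subobject.mk f, ?_, fun z hz => ?_⟩
  · change Mono ((Subobject.mk f).arrow ≫ p)
    rw [← Subobject.underlyingIso_hom_comp_eq_mk, Category.assoc]
    infer_instance
  · have hz' : A (equivShrink c ⟨z, hz⟩) = z :=
      congrArg Subtype.val (Equiv.symm_apply_apply _ _)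
    rw [← hz']
    exact Subobject.le_mk_of_comm (colimit.ι D _) (colimit.ι_desc co _)

/-- A uniform object: no two nonzero subobjects are independent. -/
def IsUniform (B : C) : Prop :=
  ¬ IsZero B ∧ ∀ (B₁ B₂ : C) (b₁ : B₁ ⟶ B) (b₂ : B₂ ⟶ B),
    Mono (biprod.desc b₁ b₂) → IsZero B₁ ∨ IsZero B₂

omit [IsGrothendieckAbelian.{w} C] in
/-- Nonzero Noetherian objects have uniform subobjects. -/
theorem exists_uniform (G : C) [IsNoetherianObject G] (hG : ¬ IsZero G) :
    ∃ (B : C) (b : B ⟶ G), Mono b ∧ IsUniform B := by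
  let S : Set (Subobject G) :=
    {A | ∃ (B : C) (b : B ⟶ G), Mono (biprod.desc A.arrow b) ∧ ¬ IsZero B}
  have hS : S.Nonempty := by
    refine ⟨⊥, G, 𝟙 G, ?_, hG⟩
    refine Preadditive.mono_of_cancel_zero _ fun {Z} g hg => ?_
    have hz : IsZero ((⊥ : Subobject G) : C) :=
      (isZero_zero C).of_iso Subobject.botCoeIsoZero
    have e : biprod.desc (⊥ : Subobject G).arrow (𝟙 G) = biprod.snd :=
      biprod.hom_ext' _ _ (hz.eq_of_src _ _) (by simp)
    rw [e] at hg
    exact biprod.hom_ext _ _ (hz.eq_of_tgt _ _) (by simpa using hg)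
  obtain ⟨A, ⟨B, b, hmono, hB⟩, hmax⟩ := (wellFounded_gt (α := Subobject G)).has_min S hS
  haveI := hmono
  haveI hb : Mono b := by
    rw [← biprod.inr_desc A.arrow b]; infer_instance
  refine ⟨B, b, hb, hB, fun B₁ B₂ b₁ b₂ hm => or_iff_not_imp_right.2 fun h₂ => ?_⟩
  haveI := hm
  let w : (A : C) ⊞ B₁ ⟶ G := biprod.desc A.arrow (b₁ ≫ b)
  let T : ((A : C) ⊞ B₁) ⊞ B₂ ⟶ (A : C) ⊞ B :=
    biprod.desc (biprod.map (𝟙 _) b₁) (b₂ ≫ biprod.inr)
  haveI : Mono T := by
    refine Preadditive.mono_of_cancel_zero _ fun {Z} g hg => ?_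
    have h1 : g ≫ biprod.fst ≫ biprod.fst = 0 := by
      have := congrArg (· ≫ biprod.fst) hg
      simpa [T, biprod.desc_eq, Preadditive.comp_add] using this
    have h2 : (biprod.lift (g ≫ biprod.fst ≫ biprod.snd) (g ≫ biprod.snd)) ≫ biprod.desc b₁ b₂ = 0 := by
      have := congrArg (· ≫ biprod.snd) hg
      simpa [T, biprod.desc_eq, Preadditive.comp_add] using this
    have h3 := (cancel_mono (biprod.desc b₁ b₂)).1 (h2.trans zero_comp.symm)
    have h4 : g ≫ biprod.fst ≫ biprod.snd = 0 := by
      simpa using congrArg (· ≫ biprod.fst) h3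
    have h5 : g ≫ biprod.snd = 0 := by
      simpa using congrArg (· ≫ biprod.snd) h3
    exact biprod.hom_ext _ _ (biprod.hom_ext _ _ (by simp [h1]) (by simp [h4])) (by simp [h5])
  have hTw : T ≫ biprod.desc A.arrow b = biprod.desc w (b₂ ≫ b) := by
    ext <;> simp [T, w]
  haveI : Mono (biprod.desc w (b₂ ≫ b)) := hTw ▸ inferInstance
  haveI : Mono w := by rw [← biprod.inl_desc w (b₂ ≫ b)]; infer_instance
  let A' := Subobject.mk w
  have hA' : A' ∈ S := by
    refine ⟨B₂, b₂ ≫ b, ?_, h₂⟩
    have e : biprod.desc A'.arrow (b₂ ≫ b) =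
        (biprod.mapIso (Subobject.underlyingIso w) (Iso.refl B₂)).hom ≫ biprod.desc w (b₂ ≫ b) := by
      ext <;> simp [A']
    rw [e]; infer_instance
  have hle : A ≤ A' := Subobject.le_mk_of_comm biprod.inl (biprod.inl_desc _ _)
  rcases hle.eq_or_lt with e | hlt
  · have hfac : Subobject.ofMkLE w A e.ge ≫ biprod.inl = 𝟙 _ := by
      rw [← cancel_mono w]
      simp [w]
    refine (IsZero.iff_id_eq_zero _).2 ?_
    have := congrArg (fun t => biprod.inr ≫ t ≫ biprod.snd) hfac
    simpa using this.symm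
  · exact absurd hlt (hmax _ hA')

omit [IsGrothendieckAbelian.{w} C] in
/-- Maps out of the quotient by a complement are monic if they are monic on the complemented object. -/
theorem mono_of_complement {M B : C} (b : B ⟶ M) [Mono b] {K : Subobject M}
    (hK : Maximal (fun A : Subobject M => Mono (A.arrow ≫ cokernel.π b)) K) {Z : C}
    (g : cokernel K.arrow ⟶ Z) [Mono (b ≫ cokernel.π K.arrow ≫ g)] : Mono g := by
  let q := cokernel.π K.arrow
  let L := kernelSubobject (q ≫ g)
  haveI hL : Mono (L.arrow ≫ cokernel.π b) := by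
    refine Preadditive.mono_of_cancel_zero _ fun {T} t ht => ?_
    rw [← Category.assoc] at ht
    have hl := Abelian.monoLift_comp b _ ht
    have h0 : Abelian.monoLift b _ ht = 0 := (cancel_mono (b ≫ q ≫ g)).1 (by
      rw [← Category.assoc, hl, Category.assoc, kernelSubobject_arrow_comp, comp_zero, zero_comp])
    rw [h0, zero_comp] at hl
    rw [← cancel_mono L.arrow, ← hl, zero_comp]
  have hle : K ≤ L :=
    le_kernelSubobject _ _ (by rw [← Category.assoc, cokernel.condition, zero_comp])
  have hge : L ≤ K := hK.2 hL hle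
  refine Preadditive.mono_of_cancel_zero _ fun {T} t ht => ?_
  have hm : pullback.fst q t ≫ q ≫ g = 0 := by
    rw [← Category.assoc, pullback.condition, Category.assoc, ht, comp_zero]
  have hf := kernelSubobject_factors (q ≫ g) _ hm
  have hmK : pullback.fst q t ≫ q = 0 := by
    rw [← L.factorThru_arrow _ hf, ← Subobject.ofLE_arrow hge, Category.assoc, Category.assoc,
      cokernel.condition, comp_zero, comp_zero]
  rw [← cancel_epi (pullback.snd q t), ← pullback.condition, hmK, comp_zero]

omit [IsGrothendieckAbelian.{w} C] in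
theorem mono_comp_complement {M B : C} (b : B ⟶ M) [Mono b] {A : C} (a : A ⟶ M) [Mono a]
    [Mono (a ≫ cokernel.π b)] : Mono (b ≫ cokernel.π a) :=
  Preadditive.mono_of_cancel_zero _ fun {T} t ht => by
    rw [← Category.assoc] at ht
    have hl := Abelian.monoLift_comp a _ ht
    have h0 : Abelian.monoLift a _ ht = 0 := (cancel_mono (a ≫ cokernel.π b)).1 (by
      rw [← Category.assoc, hl, Category.assoc, cokernel.condition, comp_zero, zero_comp])
    rw [h0, zero_comp] at hl
    rw [← cancel_mono b, ← hl, zero_comp]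

/-- A uniform subobject of an injective lies in an indecomposable injective summand. -/
theorem exists_indecomposable_of_uniform {M : C} [Injective M] {B : C} (b : B ⟶ M) [Mono b]
    (hB : IsUniform B) : ∃ (E : C) (s : E ⟶ M), Mono s ∧ Injective E ∧ ¬ IsZero E ∧
      ∀ A D : C, Nonempty (E ≅ A ⊞ D) → IsZero A ∨ IsZero D := by
  haveI : Mono ((⊥ : Subobject M).arrow ≫ cokernel.π b) :=
    Preadditive.mono_of_cancel_zero _ fun g _ =>
      ((isZero_zero C).of_iso Subobject.botCoeIsoZero).eq_of_tgt _ _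
  obtain ⟨K, -, hK⟩ := exists_complement (cokernel.π b) (⊥ : Subobject M)
  haveI : Mono (K.arrow ≫ cokernel.π b) := hK.1
  let q := cokernel.π K.arrow
  haveI hbq : Mono (b ≫ q) := mono_comp_complement b K.arrow
  haveI : Mono ((Subobject.mk b).arrow ≫ q) := by
    rw [← Subobject.underlyingIso_hom_comp_eq_mk, Category.assoc]; infer_instance
  obtain ⟨B', -, hB'⟩ := exists_complement q (Subobject.mk b)
  haveI : Mono (B'.arrow ≫ q) := hB'.1
  let q' := cokernel.π B'.arrow
  haveI : Mono (K.arrow ≫ q') := mono_comp_complement K.arrow B'.arrow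
  let h := Injective.factorThru K.arrow (K.arrow ≫ q')
  have hh : (K.arrow ≫ q') ≫ h = K.arrow := Injective.comp_factorThru _ _
  rw [Category.assoc] at hh
  haveI : Mono h := by
    haveI : Mono (K.arrow ≫ q' ≫ h) := by rw [hh]; infer_instance
    exact mono_of_complement K.arrow hB' h
  haveI : Mono (h ≫ cokernel.π b) := by
    haveI : Mono (K.arrow ≫ q' ≫ h ≫ cokernel.π b) := by
      rw [reassoc_of% hh]; infer_instance
    exact mono_of_complement K.arrow hB' _
  have hle : K ≤ Subobject.mk h :=
    Subobject.le_mk_of_comm (K.arrow ≫ q') (by rw [Category.assoc, hh])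
  have hge : Subobject.mk h ≤ K := hK.2 (show Mono _ by
    rw [← Subobject.underlyingIso_hom_comp_eq_mk, Category.assoc]; infer_instance) hle
  let ρ := q' ≫ Subobject.ofMkLE h K hge
  have hρ : K.arrow ≫ ρ = 𝟙 _ := by
    rw [← cancel_mono K.arrow]
    simp [ρ, hh]
  let s : cokernel K.arrow ⟶ M := cokernel.desc _ (𝟙 M - ρ ≫ K.arrow) (by
    rw [Preadditive.comp_sub, reassoc_of% hρ, Category.comp_id, sub_self])
  have hs : s ≫ q = 𝟙 _ := by
    rw [← cancel_epi q]
    simp [s, q]
  refine ⟨cokernel K.arrow, s, (SplitMono.mk q hs).mono, (Retract.mk s q hs).injective,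
    fun hz => hB.1 ((IsZero.iff_id_eq_zero B).2 ((cancel_mono (b ≫ q)).1 (hz.eq_of_tgt _ _))), ?_⟩
  rintro A D ⟨e⟩
  let i := b ≫ q ≫ e.hom
  haveI : Mono i := by
    change Mono (b ≫ q ≫ e.hom)
    rw [← Category.assoc]; infer_instance
  have hdis : Mono (biprod.desc (kernel.ι (i ≫ biprod.fst)) (kernel.ι (i ≫ biprod.snd))) := by
    refine Preadditive.mono_of_cancel_zero _ fun {T} g hg => ?_
    let g₁ := (g ≫ biprod.fst) ≫ kernel.ι (i ≫ biprod.fst)
    let g₂ := (g ≫ biprod.snd) ≫ kernel.ι (i ≫ biprod.snd)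
    have hsum : g₁ + g₂ = 0 := by
      simpa [g₁, g₂, biprod.desc_eq, Preadditive.comp_add] using hg
    have e₁ : g₁ = - g₂ := eq_neg_of_add_eq_zero_left hsum
    have h1 : g₁ ≫ i = 0 := by
      ext
      · simp [g₁]
      · rw [e₁]; simp [g₂]
    have h1' : g₁ = 0 := (cancel_mono i).1 (h1.trans zero_comp.symm)
    have h2' : g₂ = 0 := by rw [h1', zero_add] at hsum; exact hsum
    exact biprod.hom_ext _ _
      (((cancel_mono (kernel.ι (i ≫ biprod.fst))).1 (h1'.trans zero_comp.symm)).trans zero_comp.symm)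
      (((cancel_mono (kernel.ι (i ≫ biprod.snd))).1 (h2'.trans zero_comp.symm)).trans zero_comp.symm)
  rcases hB.2 _ _ _ _ hdis with hz | hz
  · haveI : Mono (b ≫ q ≫ e.hom ≫ biprod.fst) := by
      have := Preadditive.mono_of_isZero_kernel _ hz
      simpa [i] using this
    haveI := mono_of_complement b hK (e.hom ≫ biprod.fst)
    haveI : Mono (biprod.fst : A ⊞ D ⟶ A) := by
      rw [← e.inv_hom_id_assoc biprod.fst]; infer_instance
    exact Or.inr ((IsZero.iff_id_eq_zero D).2 ((cancel_mono (biprod.inr : D ⟶ A ⊞ D)).1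
      ((cancel_mono (biprod.fst : A ⊞ D ⟶ A)).1 (by simp))))
  · haveI : Mono (b ≫ q ≫ e.hom ≫ biprod.snd) := by
      have := Preadditive.mono_of_isZero_kernel _ hz
      simpa [i] using this
    haveI := mono_of_complement b hK (e.hom ≫ biprod.snd)
    haveI : Mono (biprod.snd : A ⊞ D ⟶ D) := by
      rw [← e.inv_hom_id_assoc biprod.snd]; infer_instance
    exact Or.inl ((IsZero.iff_id_eq_zero A).2 ((cancel_mono (biprod.inl : A ⟶ A ⊞ D)).1
      ((cancel_mono (biprod.snd : A ⊞ D ⟶ D)).1 (by simp))))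

end InjModLib
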