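import Groth.Agent.InjModLib.Indec

/-!
# Decomposition of injective modules
-/

set_option autoImplicit false
set_option backward.isDefEq.respectTransparency false
set_option backward.isDefEq.respectTransparency.types false
set_option linter.style.haveILetI false

universe u

open CategoryTheory CategoryTheory.Limits AlgebraicGeometry

namespace InjModLib

variable {X : Scheme.{u}}

theorem exists_decomposition [IsLocallyNoetherian X] (I : X.Modules) [Injective I] :
    ∃ (ι : Type u) (J : ι → X.Modules), (∀ i, Injective (J i)) ∧ (∀ i, ¬ IsZero (J i)) ∧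
      (∀ i (A B : X.Modules), Nonempty (J i ≅ A ⊞ B) → IsZero A ∨ IsZero B) ∧
      Nonempty (I ≅ ∐ J) := by
  haveI := isGrothendieckAbelian_modules (X := X)
  let Pr : X.Modules → Prop := fun A =>
    Injective A ∧ ∀ B D : X.Modules, Nonempty (A ≅ B ⊞ D) → IsZero B ∨ IsZero D
  obtain ⟨κ, F, σ, r, hr, hF, hmax⟩ := exists_maximal_sum I Pr
    (fun e h => ⟨Injective.of_iso e h.1, fun B D ⟨e'⟩ => h.2 B D ⟨e ≪≫ e'⟩⟩) fun A h => h.1
  refine ⟨κ, F, fun a => (hF a).1.1, fun a => (hF a).2, fun a => (hF a).1.2,
    ⟨⟨r, σ, ?_, hr⟩⟩⟩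
  let π : I ⟶ kernel r := kernel.lift r (𝟙 I - r ≫ σ) (by
    rw [Preadditive.sub_comp, Category.assoc, hr, Category.id_comp, Category.comp_id, sub_self])
  haveI : Injective (kernel r) :=
    (Retract.mk (kernel.ι r) π (by
      rw [← cancel_mono (kernel.ι r)]
      simp [π])).injective
  have hz : IsZero (kernel r) := by
    by_contra hnz
    obtain ⟨V, a, ha⟩ : ∃ (V : X.affineOpens) (a : KFlatLib.freeU (V : X.Opens) ⟶ kernel r), a ≠ 0 := by
      by_contra hne
      push Not at hne
      exact hnz ((IsZero.iff_id_eq_zero _).2 (hom_ext_of_basis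
        (fun V : X.affineOpens => (V : X.Opens)) basis_affine _ _ fun V a => by
          rw [hne V a, zero_comp, zero_comp]))
    haveI := isNoetherianObject_freeU' V
    haveI : IsNoetherianObject (Abelian.image a) :=
      GrothTransLib.isNoetherianObject_of_epi (Abelian.factorThruImage a)
    obtain ⟨B, b, _, hB⟩ := exists_uniform (Abelian.image a) fun h => ha (by
      rw [← Abelian.image.fac a, h.eq_of_tgt (Abelian.factorThruImage a) 0, zero_comp])
    obtain ⟨E, s, _, hE, hEz, hEi⟩ := exists_indecomposable_of_uniform (b ≫ Abelian.image.ι a) hB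
    exact hEz (hmax E (s ≫ kernel.ι r) inferInstance ⟨hE, hEi⟩ (by simp))
  have h1 : kernel.lift r (𝟙 I - r ≫ σ) (by
    rw [Preadditive.sub_comp, Category.assoc, hr, Category.id_comp, Category.comp_id, sub_self]) = π := rfl
  have h2 : 𝟙 I - r ≫ σ = π ≫ kernel.ι r := (kernel.lift_ι _ _ _).symm
  rw [hz.eq_of_tgt π 0, zero_comp, sub_eq_zero] at h2
  exact h2.symm

end InjModLib
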