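import Mathlib

/-!
# Injective objects in locally Noetherian Grothendieck categories
-/

set_option autoImplicit false
set_option backward.isDefEq.respectTransparency false
set_option backward.isDefEq.respectTransparency.types false
set_option backward.defeqAttrib.useBackward true
set_option linter.style.haveILetI false

universe w v u

open CategoryTheory CategoryTheory.Limits
open scoped ZeroObject

namespace InjModLib

variable {C : Type u} [Category.{v} C] [Abelian C] [IsGrothendieckAbelian.{w} C]

section Baer

variable {ι : Type w} (s : ι → C)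
  (hs : ∀ ⦃X Y : C⦄ (f g : X ⟶ Y), (∀ (i : ι) (a : s i ⟶ X), a ≫ f = a ≫ g) → f = g)
  (I : C) (h : ∀ (i : ι) (X : C) (m : X ⟶ s i) [Mono m] (φ : X ⟶ I), ∃ ψ : s i ⟶ I, m ≫ ψ = φ)

/-- The morphisms along which maps into `I` extend. -/
abbrev extProp : MorphismProperty C :=
  (MorphismProperty.ofHoms fun _ : PUnit.{1} => (0 : I ⟶ 0)).llp

include hs h

omit [IsGrothendieckAbelian.{w} C] in
theorem exists_larger {X : C} (A : Subobject X) (hA : A ≠ ⊤) :
    ∃ (A' : Subobject X) (hlt : A < A'), extProp I (Subobject.ofLE A A' hlt.le) := by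
  have hp : ¬ IsIso A.arrow := fun hi => hA ((Subobject.isIso_arrow_iff_eq_top A).1 hi)
  obtain ⟨i, a, ha⟩ : ∃ (i : ι) (a : s i ⟶ X), ∀ l, l ≫ A.arrow ≠ a := by
    by_contra hne
    push Not at hne
    haveI : Epi A.arrow := Preadditive.epi_of_cancel_zero _ fun {Y} g hg => hs g 0 fun i a => by
      obtain ⟨l, rfl⟩ := hne i a
      rw [Category.assoc, hg, comp_zero, comp_zero]
    exact hp (isIso_of_mono_of_epi _)
  let p' := pushout.desc A.arrow a pullback.condition
  haveI : Mono p' := (IsPushout.of_hasPushout _ _).mono_of_isPullback_of_mono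
    (IsPullback.of_hasPullback A.arrow a) _ (by simp [p']) (by simp [p'])
  have hl : pushout.inl (pullback.fst A.arrow a) (pullback.snd A.arrow a) ≫ p' = A.arrow := by simp [p']
  have hlt : A < Subobject.mk p' := by
    refine lt_of_le_of_ne (Subobject.le_mk_of_comm _ hl) fun e => ?_
    have hf : (Subobject.mk p').Factors a :=
      (Subobject.mk_factors_iff _ _).2 ⟨pushout.inr _ _, by simp [p', MonoOver.mk, MonoOver.arrow]⟩
    rw [← e] at hf
    exact ha _ (A.factorThru_arrow a hf)
  refine ⟨Subobject.mk p', hlt, ?_⟩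
  have h1 : extProp I (pullback.snd A.arrow a) := by
    rintro _ _ _ ⟨⟩
    refine ⟨fun {φ g} sq => ?_⟩
    obtain ⟨ψ, hψ⟩ := h i _ (pullback.snd A.arrow a) φ
    exact ⟨⟨⟨ψ, hψ, (isZero_zero C).eq_of_tgt _ _⟩⟩⟩
  have h2 : extProp I (pushout.inl (pullback.fst A.arrow a) (pullback.snd A.arrow a)) :=
    MorphismProperty.pushout_inl _ _ h1
  refine (MorphismProperty.arrow_mk_iso_iff _ ?_).1 h2
  exact Arrow.isoMk (Iso.refl _) (Subobject.underlyingIso p').symm
    (by rw [← cancel_mono (Subobject.mk p').arrow]; simp [hl])

open scoped Classical in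
/-- A larger subobject along which maps into `I` extend. -/
noncomputable def larger {X : C} (A : Subobject X) : Subobject X :=
  if hA : A = ⊤ then ⊤ else (exists_larger s hs I h A hA).choose

omit [IsGrothendieckAbelian.{w} C] in
theorem lt_larger {X : C} (A : Subobject X) (hA : A ≠ ⊤) : A < larger s hs I h A := by
  rw [larger, dif_neg hA]
  exact (exists_larger s hs I h A hA).choose_spec.choose

omit [IsGrothendieckAbelian.{w} C] in
theorem le_larger {X : C} (A : Subobject X) : A ≤ larger s hs I h A := by
  by_cases hA : A = ⊤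
  · rw [larger, dif_pos hA, hA]
  · exact (lt_larger s hs I h A hA).le

omit [IsGrothendieckAbelian.{w} C] in
theorem extProp_ofLE_larger {X : C} (A : Subobject X) :
    extProp I (Subobject.ofLE A _ (le_larger s hs I h A)) := by
  by_cases hA : A = ⊤
  · have e : larger s hs I h A = ⊤ := by rw [larger, dif_pos hA]
    haveI : IsIso (Subobject.ofLE A _ (le_larger s hs I h A)) :=
      ⟨Subobject.ofLE _ A (e.trans hA.symm).le, by simp, by simp⟩
    intro _ _ _ _
    infer_instance
  · refine (MorphismProperty.arrow_mk_iso_iff _ ?_).1 (exists_larger s hs I h A hA).choose_spec.choose_spec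
    exact Arrow.isoMk (Iso.refl _) (Subobject.isoOfEq _ _ (by rw [larger, dif_neg hA]))

variable {X : C} (A₀ : Subobject X) (J : Type w) [LinearOrder J] [OrderBot J] [SuccOrder J]
  [WellFoundedLT J]

/-- The iteration as monomorphisms to `X`. -/
noncomputable def chainMono : J ⥤ MonoOver X where
  obj j := MonoOver.mk (transfiniteIterate (larger s hs I h) j A₀).arrow
  map {_ _} f := MonoOver.homMk (Subobject.ofLE _ _
    (monotone_transfiniteIterate _ _ (le_larger s hs I h) (leOfHom f)))

/-- The iteration as objects. -/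
noncomputable abbrev chain : J ⥤ C :=
  chainMono s hs I h A₀ J ⋙ MonoOver.forget _ ⋙ Over.forget _

theorem isWellOrderContinuous_chain : (chain s hs I h A₀ J).IsWellOrderContinuous where
  nonempty_isColimit m hm := ⟨by
    have := hm.nonempty_Iio.to_subtype
    let c := (Set.principalSegIio m).cocone (chainMono s hs I h A₀ J ⋙ MonoOver.forget _)
    have : Mono c.pt.hom := by dsimp [c, chainMono]; infer_instance
    apply IsGrothendieckAbelian.isColimitMapCoconeOfSubobjectMkEqISup
      ((Set.principalSegIio m).monotone.functor ⋙ chainMono s hs I h A₀ J) c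
    dsimp [c, chainMono]
    simp only [Subobject.mk_arrow]
    exact transfiniteIterate_limit (larger s hs I h) A₀ m hm⟩

variable {J} in
theorem extProp_chain_map (j : J) :
    extProp I ((chain s hs I h A₀ J).map (homOfLE bot_le : ⊥ ⟶ j)) := by
  haveI := isWellOrderContinuous_chain s hs I h A₀ J
  let hc : (extProp I).TransfiniteCompositionOfShape (Set.Iic j)
      ((chain s hs I h A₀ J).map (homOfLE bot_le : ⊥ ⟶ j)) :=
    { F := (Set.initialSegIic j).monotone.functor ⋙ chain s hs I h A₀ J
      isoBot := Iso.refl _
      incl :=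
        { app := fun k => (chain s hs I h A₀ J).map (homOfLE k.2)
          naturality := fun k k' f => by
            simp [chainMono, MonoOver.forget] }
      isColimit := colimitOfDiagramTerminal isTerminalTop _
      map_mem := fun k hk => by
        dsimp [chainMono, MonoOver.forget]
        convert! extProp_ofLE_larger s hs I h (transfiniteIterate (larger s hs I h) k.1 A₀) using 2
        all_goals
          rw [Set.Iic.succ_eq_of_not_isMax hk,
            transfiniteIterate_succ _ _ _ (Set.not_isMax_coe _ hk)] }
  exact MorphismProperty.transfiniteCompositionsOfShape_le _ _ _ hc.mem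

/-- Baer's criterion relative to a separating family. -/
theorem injective_of_baer : Injective I := by
  refine (injective_iff_rlp_monomorphisms_zero I).2 fun A B f (_ : Mono f) => ?_
  let κ := Order.succ (Cardinal.mk (Shrink.{w} (Subobject B)))
  have : Nonempty κ.ord.ToType := by simp [κ]
  letI := WellFoundedLT.toOrderBot κ.ord.ToType
  obtain ⟨j, hj⟩ : ∃ j : κ.ord.ToType, transfiniteIterate (larger s hs I h) j (Subobject.mk f) = ⊤ := by
    have hJ : HasCardinalLT (Subobject B) (Cardinal.mk κ.ord.ToType) :=
      lt_of_lt_of_le (Order.lt_succ _) (by simp [κ])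
    exact top_mem_range_transfiniteIterate (larger s hs I h) _ (lt_larger s hs I h)
      (by simp [larger]) fun hinj => by
        simpa [hasCardinalLT_iff_cardinal_mk_lt] using hJ.of_injective _ hinj
  have hW := extProp_chain_map s hs I h (Subobject.mk f) j
  haveI := (Subobject.isIso_arrow_iff_eq_top _).2 hj
  have hf : extProp I f := by
    refine (MorphismProperty.arrow_mk_iso_iff _ ?_).1 hW
    refine Arrow.isoMk (Subobject.isoOfEq _ _ (transfiniteIterate_bot _ _) ≪≫ Subobject.underlyingIso f)
      (asIso (transfiniteIterate (larger s hs I h) j (Subobject.mk f)).arrow) ?_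
    dsimp [chainMono, MonoOver.forget]
    rw [Category.assoc, Subobject.underlyingIso_hom_comp_eq_mk, Subobject.ofLE_arrow,
      Subobject.ofLE_arrow]
  exact hf _ (MorphismProperty.ofHoms.mk PUnit.unit)

end Baer

section Noetherian

theorem exists_isIso_of_noetherian {X : C} [IsNoetherianObject X] {J : Type w} [SmallCategory J]
    [IsFiltered J] (F : J ⥤ MonoOver X) {c : Cocone (F ⋙ MonoOver.forget _ ⋙ Over.forget _)}
    (hc : IsColimit c) (f : c.pt ⟶ X) (hf : ∀ j, c.ι.app j ≫ f = (F.obj j).obj.hom) [Epi f] :
    ∃ j, IsIso (F.obj j).obj.hom := by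
  haveI := IsGrothendieckAbelian.mono_of_isColimit_monoOver F hc f hf
  have htop : (⨆ j, Subobject.mk (F.obj j).obj.hom) = ⊤ := by
    rw [← IsGrothendieckAbelian.subobjectMk_of_isColimit_eq_iSup F hc f hf, ← Subobject.epi_iff_mk_eq_top]
    infer_instance
  haveI : Nonempty J := IsFiltered.nonempty
  obtain ⟨_, ⟨j, rfl⟩, hmax⟩ := (wellFounded_gt (α := Subobject X)).has_min
    (Set.range fun j => Subobject.mk (F.obj j).obj.hom) (Set.range_nonempty _)
  refine ⟨j, (Subobject.isIso_iff_mk_eq_top _).2 ?_⟩
  rw [← top_le_iff, ← htop, iSup_le_iff]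
  intro k
  have hl := MonoOver.subobjectMk_le_mk_of_hom (F.map (IsFiltered.leftToMax j k))
  have hr := MonoOver.subobjectMk_le_mk_of_hom (F.map (IsFiltered.rightToMax j k))
  rcases hl.eq_or_lt with e | hlt
  · exact hr.trans e.ge
  · exact absurd hlt (hmax _ ⟨_, rfl⟩)

open IsGrothendieckAbelian.IsPresentable in
/-- Maps out of Noetherian objects into directed unions factor through a stage. -/
theorem exists_factor {X : C} [IsNoetherianObject X] {J : Type w} [SmallCategory J]
    [IsFiltered J] {Y : J ⥤ C} {c : Cocone Y} (hc : IsColimit c) [Mono c.ι] (z : X ⟶ c.pt) :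
    ∃ (j : J) (l : X ⟶ Y.obj j), l ≫ c.ι.app j = z := by
  haveI := surjectivity.isIso_f hc z
  obtain ⟨j, hj⟩ := exists_isIso_of_noetherian (surjectivity.F z) (colimit.isColimit _)
    (surjectivity.f z) (surjectivity.hf z)
  dsimp at hj
  refine ⟨j, inv ((pullback.snd c.ι ((Functor.const _).map z)).app j) ≫
    (pullback.fst c.ι ((Functor.const _).map z)).app j, ?_⟩
  rw [Category.assoc, IsIso.inv_comp_eq]
  exact NatTrans.congr_app (pullback.condition (f := c.ι) (g := (Functor.const J).map z)) j

open CoproductsFromFiniteFiltered in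
/-- In a locally Noetherian category coproducts of injectives are injective. -/
theorem injective_coproduct {ι : Type w} (s : ι → C)
    (hs : ∀ ⦃X Y : C⦄ (f g : X ⟶ Y), (∀ (i : ι) (a : s i ⟶ X), a ≫ f = a ≫ g) → f = g)
    (hN : ∀ i, IsNoetherianObject (s i)) {α : Type w} (I : α → C) (hI : ∀ a, Injective (I a)) :
    Injective (∐ I) := by
  classical
  refine injective_of_baer s hs _ fun i X m _ φ => ?_
  haveI := hN i
  haveI : IsNoetherianObject X := isNoetherianObject_of_mono m
  haveI : ∀ T : Finset (Discrete α), Mono ((finiteSubcoproductsCocone I).ι.app T) := fun T => by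
    let r : ∐ I ⟶ (liftToFinsetObj (Discrete.functor I)).obj T := Sigma.desc fun a =>
      if ha : (⟨a⟩ : Discrete α) ∈ T then
        Sigma.ι (fun x : T => (Discrete.functor I).obj x.1) ⟨⟨a⟩, ha⟩ else 0
    exact (SplitMono.mk r (Sigma.hom_ext _ _ fun a => by
      dsimp [r, finiteSubcoproductsCocone]
      erw [colimit.ι_desc_assoc]
      simp [dif_pos a.2])).mono
  haveI := NatTrans.mono_of_mono_app (finiteSubcoproductsCocone I).ι
  obtain ⟨T, l, hl⟩ := exists_factor (isColimitFiniteSubproductsCocone I) φ
  haveI : Injective ((liftToFinsetObj (Discrete.functor I)).obj T) := by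
    haveI := Abelian.hasFiniteBiproducts (C := C)
    haveI : ∀ x : T, Injective ((Discrete.functor I).obj x.1) := fun x => hI x.1.as
    exact Injective.of_iso ((biproduct.isoProduct _).symm ≪≫ biproduct.isoCoproduct
      (fun x : T => (Discrete.functor I).obj x.1)) inferInstance
  exact ⟨Injective.factorThru l m ≫ (finiteSubcoproductsCocone I).ι.app T, by simp [← hl]⟩

end Noetherian

end InjModLib
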