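import Groth.Agent.InjModLib.Crit
import Groth.Agent.InjModLib.GammaZ
import Groth.Agent.InjHullLib.Quotient

/-!
# Quasi-coherent injective submodules of injective modules
-/

set_option autoImplicit false
set_option backward.isDefEq.respectTransparency false
set_option backward.isDefEq.respectTransparency.types false
set_option linter.style.haveILetI false

universe u

open CategoryTheory CategoryTheory.Limits AlgebraicGeometry TopologicalSpace Opposite
open KFlatLib InjHull

namespace InjModLib

variable {X : Scheme.{u}}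

theorem sky_ext (y : X) (A : ModuleCat.{u} (X.presheaf.stalk y)) {O : X.Opens}
    (s t : Γ(skyObj y A, O)) (h : ∀ hy : y ∈ O, skyVal y hy s = skyVal y hy t) : s = t :=
  skyObj_ext y A s t h

/-- Skyscrapers of torsion modules over the local ring are quasi-coherent. -/
theorem isQCoh_skyObj (y : X) (A : ModuleCat.{u} (X.presheaf.stalk y))
    (hA : ∀ r ∈ IsLocalRing.maximalIdeal (X.presheaf.stalk y), ∀ a : A, ∃ n : ℕ, r ^ n • a = 0) :
    Coh.IsQCoh (skyObj y A) := by
  rw [QCohLib.isQCoh_iff_localizingAt]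
  intro U hU f
  constructor
  · intro s
    by_cases hy : y ∈ X.basicOpen f
    · refine ⟨0, skyMk y fun _ => skyVal y hy s, sky_ext y A _ _ fun h => ?_⟩
      refine (skyVal_map y _ h _).trans ?_
      rw [pow_zero, one_smul]
      rfl
    · exact ⟨0, 0, sky_ext y A _ _ fun h => absurd h hy⟩
  · intro t ht
    by_cases hyU : y ∈ U
    · by_cases hy : y ∈ X.basicOpen f
      · refine ⟨0, sky_ext y A _ _ fun h => ?_⟩
        rw [pow_zero, one_smul, map_zero]
        have h1 := congrArg (skyVal y hy) ht
        rw [map_zero] at h1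
        exact (skyVal_map y _ hy t).symm.trans h1
      · obtain ⟨n, hn⟩ := hA (X.presheaf.germ U y hyU f) (by
          rw [IsLocalRing.mem_maximalIdeal, mem_nonunits_iff]
          exact fun hu => hy ((X.mem_basicOpen f y hyU).2 hu)) (skyVal y hyU t)
        refine ⟨n, sky_ext y A _ _ fun h => ?_⟩
        rw [map_zero, skyVal_smul, map_pow]
        refine Eq.trans (congrArg (fun r => r ^ n • skyVal y h t) ?_) hn
        exact TopCat.Presheaf.germ_res_apply X.presheaf (homOfLE le_rfl) y h f
    · exact ⟨0, sky_ext y A _ _ fun h => absurd h hyU⟩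

/-- A section with prime annihilator spans a module which embeds in a skyscraper. -/
theorem exists_qcoh_injective_sub [IsLocallyNoetherian X] {K C : X.Modules} [Coh.IsQCoh K]
    [Injective C] (incl : K ⟶ C) [Mono incl] (hK : ¬ IsZero K) :
    ∃ (P : X.Modules) (ψ : P ⟶ C), Mono ψ ∧ Coh.IsQCoh P ∧ Injective P ∧ ¬ IsZero P := by
  obtain ⟨x, hx⟩ := not_forall.1 fun h => hK ((isZero_iff_forall_stalk K).2 h)
  obtain ⟨V, hV, hxV, -⟩ := Opens.isBasis_iff_nbhd.1 X.isBasis_affineOpens (Opens.mem_top x)
  haveI := IsLocallyNoetherian.component_noetherian (X := X) ⟨V, hV⟩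
  obtain ⟨m₀, hm₀⟩ : ∃ m₀ : Γ(K, V), m₀ ≠ 0 := by
    by_contra hne
    push Not at hne
    apply hx
    refine ModuleCat.isZero_iff_subsingleton.2 (subsingleton_of_forall_eq 0 fun z => ?_)
    letI := Module.compHom (K.presheaf.stalk x) (X.presheaf.germ V x hxV).hom
    haveI := FlatLib.isLocalizedModule_germLin K hV hxV
    exact eq_zero_of_torsion (FlatLib.germLin K hxV) (S := (hV.primeIdealOf ⟨x, hxV⟩).asIdeal.primeCompl)
      (fun m => ⟨1, one_mem _, by rw [one_smul, hne m]⟩) z
  obtain ⟨c₀, P, hP, -, hann⟩ := InjHullLib.exists_smul_prime (R := Γ(X, V)) hm₀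
  let m := c₀ • m₀
  let pt : PrimeSpectrum Γ(X, V) := ⟨P, hP⟩
  let y := hV.fromSpec pt
  have hyV : y ∈ V := hV.range_fromSpec.le ⟨pt, rfl⟩
  have hyP : (hV.primeIdealOf ⟨y, hyV⟩).asIdeal = P :=
    congrArg PrimeSpectrum.asIdeal (hV.fromSpec.injective (hV.fromSpec_primeIdealOf ⟨y, hyV⟩))
  -- germs of multiples of `m`
  have hgm : ∀ (q : X) (hq : q ∈ V) (c : Γ(X, V)),
      K.presheaf.germ V q hq (c • m) = 0 ↔ c ∈ P ∨ ¬ P ≤ (hV.primeIdealOf ⟨q, hq⟩).asIdeal := by
    intro q hq c
    letI := Module.compHom (K.presheaf.stalk q) (X.presheaf.germ V q hq).hom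
    haveI := FlatLib.isLocalizedModule_germLin K hV hq
    refine (IsLocalizedModule.eq_zero_iff (hV.primeIdealOf ⟨q, hq⟩).asIdeal.primeCompl
      (FlatLib.germLin K hq)).trans ⟨?_, ?_⟩
    · rintro ⟨t, ht⟩
      rw [Submonoid.smul_def, ← mul_smul, hann] at ht
      rcases hP.mem_or_mem ht with h | h
      · exact Or.inr fun hle => t.2 (hle h)
      · exact Or.inl h
    · rintro (h | h)
      · exact ⟨1, by rw [one_smul, hann]; exact h⟩
      · obtain ⟨t, htP, htq⟩ := SetLike.not_le_iff_exists.1 h
        exact ⟨⟨t, htq⟩, by rw [Submonoid.smul_def, ← mul_smul, hann]; exact P.mul_mem_right _ htP⟩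
  let g₀ : freeU V ⟶ K := secMap m
  let G := Abelian.image g₀
  let e : freeU V ⟶ G := Abelian.factorThruImage g₀
  let ιG : G ⟶ K := Abelian.image.ι g₀
  let m' : Γ(G, V) := freeUEquiv V G e
  have hm' : ιG.app V m' = m := by
    rw [← freeUEquiv_comp, Abelian.image.fac]
    exact (freeUEquiv V K).apply_symm_apply m
  -- every stalk of `G` inside `V` is spanned by the germ of `m'`
  have hspan : ∀ (q : X) (hq : q ∈ V) (z : (DerSch.stalkFunctor X q).obj G),
      ∃ a : X.presheaf.stalk q, z = a • (G.presheaf.germ V q hq m') := by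
    intro q hq z
    obtain ⟨w, rfl⟩ := (ModuleCat.epi_iff_surjective ((DerSch.stalkFunctor X q).map e)).1 inferInstance z
    obtain ⟨a, rfl⟩ := exists_eq_smul_gen hq w
    exact ⟨a, (map_smul _ _ _).trans (congrArg (a • ·) (genGerm_map q hq e))⟩
  let A := (DerSch.stalkFunctor X y).obj G
  let gen : A := G.presheaf.germ V y hyV m'
  have hmax : ∀ r ∈ IsLocalRing.maximalIdeal (X.presheaf.stalk y), r • gen = 0 := by
    intro r hr
    letI : Algebra Γ(X, V) (X.presheaf.stalk y) := (X.presheaf.germ V y hyV).hom.toAlgebra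
    haveI := hV.isLocalization_stalk ⟨y, hyV⟩
    obtain ⟨c, d, rfl⟩ := IsLocalization.exists_mk'_eq (hV.primeIdealOf ⟨y, hyV⟩).asIdeal.primeCompl r
    have hc : c ∈ P := hyP ▸ (IsLocalization.AtPrime.mk'_mem_maximal_iff (X.presheaf.stalk y)
      (hV.primeIdealOf ⟨y, hyV⟩).asIdeal c d).1 hr
    refine (IsLocalization.map_units (X.presheaf.stalk y) d).smul_left_cancel.1 ?_
    rw [smul_zero, ← mul_smul, IsLocalization.mk'_spec']
    apply stalk_injective ιG y
    rw [map_smul, map_zero]
    refine (congrArg (algebraMap Γ(X, V) (X.presheaf.stalk y) c • ·)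
      ((DerSch.stalkFunctor_map_germ y ιG V hyV m').trans (congrArg _ hm'))).trans ?_
    exact (FlatLib.germ_smul_mod K hyV c m).symm.trans ((hgm y hyV c).2 (Or.inl hc))
  have hgen : gen ≠ 0 := fun h0 => by
    have h1 := (DerSch.stalkFunctor_map_germ y ιG V hyV m').symm.trans
      ((congrArg ((DerSch.stalkFunctor X y).map ιG).hom h0).trans (map_zero _))
    rw [hm', ← one_smul Γ(X, V) m] at h1
    rcases (hgm y hyV 1).1 h1 with h | h
    · exact hP.ne_top ((Ideal.eq_top_iff_one P).2 h)
    · exact h hyP.ge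
  -- the residue field embeds in `A`
  let l : X.presheaf.stalk y →ₗ[X.presheaf.stalk y] A := LinearMap.toSpanSingleton _ _ gen
  have hl : LinearMap.ker l = IsLocalRing.maximalIdeal (X.presheaf.stalk y) := by
    refine le_antisymm (IsLocalRing.le_maximalIdeal fun htop => hgen ?_) fun r hr => hmax r hr
    have : (1 : X.presheaf.stalk y) ∈ LinearMap.ker l := htop ▸ Submodule.mem_top
    exact (one_smul _ gen).symm.trans this
  have hsurj : Function.Surjective l := fun z => by
    obtain ⟨a, ha⟩ := hspan y hyV z; exact ⟨a, ha.symm⟩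
  let eA := (Submodule.quotEquivOfEq _ _ hl.symm).trans (l.quotKerEquivOfSurjective hsurj)
  obtain ⟨E, _, _, f, hf⟩ := InjHullLib.exists_injectiveHull (R := X.presheaf.stalk y)
    (X.presheaf.stalk y ⧸ IsLocalRing.maximalIdeal (X.presheaf.stalk y))
  let EM := ModuleCat.of (X.presheaf.stalk y) E
  let a : A ⟶ EM := ModuleCat.ofHom (f ∘ₗ eA.symm.toLinearMap)
  have ha : Function.Injective a.hom := hf.injective.comp eA.symm.injective
  let φ := skyLift y a
  haveI : Mono φ := by
    refine Preadditive.mono_of_cancel_zero _ fun {Z} u hu => ?_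
    refine Scheme.Modules.hom_ext _ _ fun O => ConcreteCategory.hom_ext _ _ fun t => ?_
    refine ProjFormLib.section_ext (M := G) _ _ fun q hqO => ?_
    let s := u.app O t
    refine Eq.trans (b := (0 : (DerSch.stalkFunctor X q).obj G)) ?_
      (map_zero (G.presheaf.germ O q hqO).hom).symm
    change G.presheaf.germ O q hqO s = 0
    have hs : ∀ hy : y ∈ O, G.presheaf.germ O y hy s = (0 : A) := fun hy => by
      have h1 : φ.app O s = 0 := congr($(hu).app O t)
      have h2 := congrArg (skyVal y hy) h1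
      rw [map_zero] at h2
      exact ha ((skyLift_app y a hy s).symm.trans (h2.trans (map_zero a.hom).symm))
    by_cases hq : q ∈ V
    · obtain ⟨r, hr⟩ := hspan q hq (G.presheaf.germ O q hqO s)
      letI : Algebra Γ(X, V) (X.presheaf.stalk q) := (X.presheaf.germ V q hq).hom.toAlgebra
      haveI := hV.isLocalization_stalk ⟨q, hq⟩
      obtain ⟨c, d, rfl⟩ := IsLocalization.exists_mk'_eq (hV.primeIdealOf ⟨q, hq⟩).asIdeal.primeCompl r
      apply stalk_injective ιG q
      rw [map_zero]
      let gq : (DerSch.stalkFunctor X q).obj K := K.presheaf.germ V q hq m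
      have h3 : ((DerSch.stalkFunctor X q).map ιG).hom (G.presheaf.germ O q hqO s) =
          IsLocalization.mk' (X.presheaf.stalk q) c d • gq := by
        rw [hr, map_smul]
        exact congrArg (_ • ·) ((DerSch.stalkFunctor_map_germ q ιG V hq m').trans (congrArg _ hm'))
      rw [h3]
      refine (IsLocalization.map_units (X.presheaf.stalk q) d).smul_left_cancel.1 ?_
      rw [smul_zero, ← mul_smul, IsLocalization.mk'_spec']
      have h4 : K.presheaf.germ V q hq (c • m) =
          algebraMap Γ(X, V) (X.presheaf.stalk q) c • (K.presheaf.germ V q hq m :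
            (DerSch.stalkFunctor X q).obj K) := FlatLib.germ_smul_mod K hq c m
      refine h4.symm.trans ?_
      by_contra hne
      rw [hgm, not_or, not_not] at hne
      have hspec : y ⤳ q := by
        have h := ((PrimeSpectrum.le_iff_specializes pt (hV.primeIdealOf ⟨q, hq⟩)).1 hne.2).map
          hV.fromSpec.continuous
        rwa [hV.fromSpec_primeIdealOf] at h
      -- spread the relation to a neighbourhood of `q`
      have h5 : K.presheaf.germ (O ⊓ V) q ⟨hqO, hq⟩
          (X.presheaf.map (homOfLE (inf_le_right : O ⊓ V ≤ V)).op d.1 •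
            K.presheaf.map (homOfLE (inf_le_left : O ⊓ V ≤ O)).op (ιG.app O s)) =
          K.presheaf.germ V q hq (c • m) := by
        rw [h4]
        refine (FlatLib.germ_smul_mod K _ _ _).trans ?_
        rw [TopCat.Presheaf.germ_res_apply, TopCat.Presheaf.germ_res_apply]
        refine (congrArg (_ • ·) ((DerSch.stalkFunctor_map_germ q ιG O hqO s).symm.trans h3)).trans ?_
        rw [← mul_smul]
        exact congrArg (· • _) (IsLocalization.mk'_spec' (X.presheaf.stalk q) c d)
      obtain ⟨W, hqW, i₁, i₂, hW⟩ := K.presheaf.germ_eq (U := O ⊓ V) (V := V) q ⟨hqO, hq⟩ hq _ _ h5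
      have hyW : y ∈ W := hspec.mem_open W.2 hqW
      have h6 := congrArg (K.presheaf.germ W y hyW) hW
      rw [TopCat.Presheaf.germ_res_apply, TopCat.Presheaf.germ_res_apply] at h6
      have h7 : K.presheaf.germ V y hyV (c • m) = 0 := by
        refine h6.symm.trans ((FlatLib.germ_smul_mod K _ _ _).trans ?_)
        rw [TopCat.Presheaf.germ_res_apply K.presheaf]
        have h8 : K.presheaf.germ O y (hspec.mem_open O.2 hqO) (ιG.app O s) =
            (0 : (DerSch.stalkFunctor X y).obj K) :=
          (DerSch.stalkFunctor_map_germ y ιG O _ s).symm.trans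
            ((congrArg ((DerSch.stalkFunctor X y).map ιG).hom (hs _)).trans (map_zero _))
        exact (congrArg (_ • ·) h8).trans (smul_zero _)
      rcases (hgm y hyV c).1 h7 with h | h
      · exact hne.1 h
      · exact h hyP.ge
    · haveI := subsingleton_stalk_freeU (U := V) hq
      obtain ⟨w, hw⟩ := (ModuleCat.epi_iff_surjective ((DerSch.stalkFunctor X q).map e)).1
        inferInstance (G.presheaf.germ O q hqO s : (DerSch.stalkFunctor X q).obj G)
      exact hw.symm.trans ((congrArg _ (Subsingleton.elim w 0)).trans (map_zero _))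
  haveI : Injective EM :=
    Module.injective_object_of_injective_module (inj := hf.isInjective) (X.presheaf.stalk y) E
  let ψ : skyObj y EM ⟶ C := Injective.factorThru (ιG ≫ incl) φ
  have hψ : φ ≫ ψ = ιG ≫ incl := Injective.comp_factorThru _ _
  refine ⟨skyObj y EM, ψ, ?_, ?_, injective_skyObj y EM, ?_⟩
  · refine Preadditive.mono_of_cancel_zero _ fun {Z} u hu => ?_
    refine Scheme.Modules.hom_ext _ _ fun O => ConcreteCategory.hom_ext _ _ fun t => ?_
    refine sky_ext y EM (u.app O t) _ fun hyO => ?_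
    change skyVal y hyO (u.app O t) = skyVal y hyO 0
    rw [map_zero]
    by_contra hv
    obtain ⟨r, ⟨w, hw⟩, hr⟩ := InjHullLib.exists_smul_mem_of_essential hf.toIsEssentialInj hv
    obtain ⟨R₁, hyR, r', rfl⟩ := X.presheaf.exists_germ_eq (x := y) r
    obtain ⟨Z₁, hyZ, z, hz⟩ := TopCat.Presheaf.exists_germ_eq G.presheaf (x := y) (eA w)
    let O' := O ⊓ R₁ ⊓ Z₁
    have hyO' : y ∈ O' := ⟨⟨hyO, hyR⟩, hyZ⟩
    let rt := X.presheaf.map (homOfLE (inf_le_left.trans inf_le_right : O' ≤ R₁)).op r' •
      (skyObj y EM).presheaf.map (homOfLE (inf_le_left.trans inf_le_left : O' ≤ O)).op (u.app O t)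
    let z' := G.presheaf.map (homOfLE (inf_le_right : O' ≤ Z₁)).op z
    have hva : skyVal y hyO' (φ.app O' z') = skyVal y hyO' rt := by
      refine (skyLift_app y a hyO' z').trans ?_
      rw [TopCat.Presheaf.germ_res_apply, skyVal_smul]
      refine (congrArg a.hom hz).trans ?_
      change f (eA.symm (eA w)) = _
      rw [LinearEquiv.symm_apply_apply]
      refine hw.trans ?_
      exact congrArg₂ (· • ·) (TopCat.Presheaf.germ_res_apply X.presheaf _ y hyO' r').symm
        (skyVal_map y _ hyO' _).symm
    have hrt : φ.app O' z' = rt := sky_ext y EM _ _ fun _ => hva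
    have h0 : ψ.app O' rt = 0 := by
      refine (Scheme.Modules.Hom.app_smul ψ _ _).trans ?_
      have h1 : ψ.app O (u.app O t) = 0 := congr($(hu).app O t)
      rw [QCohLib.app_map, h1, map_zero, smul_zero]
    have h1 : (ιG ≫ incl).app O' z' = 0 := by
      rw [← hψ]; exact (congrArg (ψ.app O') hrt).trans h0
    have h2 : z' = 0 := QCohLib.app_injective_of_mono (ιG ≫ incl) O'
      (h1.trans (map_zero ((ιG ≫ incl).app O').hom).symm)
    have h3 : eA w = 0 := hz.symm.trans ((TopCat.Presheaf.germ_res_apply G.presheaf _ y hyO' z).symm.trans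
      ((congrArg (G.presheaf.germ O' y hyO') h2).trans (map_zero _)))
    rw [LinearEquiv.map_eq_zero_iff] at h3
    rw [h3, map_zero] at hw
    exact hr hw.symm
  · exact isQCoh_skyObj y EM fun r hr x =>
      InjHullLib.exists_pow_smul_eq_zero_of_mem _ hf.toIsEssentialInj hr x
  · intro hz
    haveI := ModuleCat.subsingleton_of_isZero ((DerSch.stalkFunctor X y).map_isZero hz)
    haveI : Subsingleton A := (stalk_injective φ y).subsingleton
    exact hgen (Subsingleton.elim _ _)

end InjModLib
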