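import Groth.Agent.InjModLib.Crit
import Mathlib.RingTheory.LocalProperties.Injective

/-!
# Quasi-coherent modules on affine schemes which are skyscrapers
-/

set_option autoImplicit false
set_option backward.isDefEq.respectTransparency false
set_option backward.isDefEq.respectTransparency.types false
set_option linter.style.haveILetI false

universe u

open CategoryTheory CategoryTheory.Limits AlgebraicGeometry TopologicalSpace Opposite
open KFlatLib

namespace InjModLib

theorem bijective_of_units_bijective {R : Type*} [CommRing R] {S : Submonoid R} {M N : Type*}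
    [AddCommGroup M] [Module R M] [AddCommGroup N] [Module R N] (g : M →ₗ[R] N) [IsLocalizedModule S g]
    (hS : ∀ s ∈ S, Function.Bijective fun m : M => s • m) : Function.Bijective g := by
  refine ⟨fun a b h => ?_, fun y => ?_⟩
  · obtain ⟨c, hc⟩ := IsLocalizedModule.exists_of_eq (S := S) h
    exact (hS c.1 c.2).1 hc
  · obtain ⟨⟨m, d⟩, hd⟩ := IsLocalizedModule.surj S g y
    obtain ⟨m', hm'⟩ := (hS d.1 d.2).2 m
    refine ⟨m', ((Module.End.isUnit_iff _).1 (IsLocalizedModule.map_units g d)).1 ?_⟩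
    change (d : R) • g m' = (d : R) • y
    rw [← map_smul]
    exact (congrArg g hm').trans hd.symm

theorem eq_zero_of_torsion {R : Type*} [CommRing R] {S : Submonoid R} {M N : Type*}
    [AddCommGroup M] [Module R M] [AddCommGroup N] [Module R N] (g : M →ₗ[R] N) [IsLocalizedModule S g]
    (h : ∀ m : M, ∃ s ∈ S, s • m = 0) (y : N) : y = 0 := by
  obtain ⟨⟨m, d⟩, hd⟩ := IsLocalizedModule.surj S g y
  obtain ⟨s, hs, hs0⟩ := h m
  have hg : g m = 0 := ((Module.End.isUnit_iff _).1 (IsLocalizedModule.map_units g ⟨s, hs⟩)).1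
    (show s • g m = s • 0 by rw [← map_smul, hs0, map_zero, smul_zero])
  exact ((Module.End.isUnit_iff _).1 (IsLocalizedModule.map_units g d)).1
    (show (d : R) • y = (d : R) • 0 from hd.trans (hg.trans (smul_zero _).symm))

variable {X : Scheme.{u}}

/-- Stalks of an injective module of sections on a Noetherian affine open are injective. -/
theorem stalk_injective_of_sections (F : X.Modules) [Coh.IsQCoh F] {U : X.Opens} (hU : IsAffineOpen U)
    [IsNoetherianRing Γ(X, U)] [Module.Injective Γ(X, U) Γ(F, U)] {q : X} (hq : q ∈ U) :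
    Module.Injective (X.presheaf.stalk q) (F.presheaf.stalk q) := by
  letI := Module.compHom (F.presheaf.stalk q) (X.presheaf.germ U q hq).hom
  letI : Algebra Γ(X, U) (X.presheaf.stalk q) := (X.presheaf.germ U q hq).hom.toAlgebra
  haveI : IsScalarTower Γ(X, U) (X.presheaf.stalk q) (F.presheaf.stalk q) :=
    IsScalarTower.of_algebraMap_smul fun _ _ => rfl
  haveI := hU.isLocalization_stalk ⟨q, hq⟩
  haveI := FlatLib.isLocalizedModule_germLin F hU hq
  exact Module.injective_of_isLocalizedModule (hU.primeIdealOf ⟨q, hq⟩).asIdeal.primeCompl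
    (FlatLib.germLin F hq)

section Affine

variable [IsAffine X] (F : X.Modules) [Coh.IsQCoh F] (p : X)
  (hunit : ∀ s : Γ(X, (⊤ : X.Opens)),
    s ∉ ((isAffineOpen_top X).primeIdealOf ⟨p, trivial⟩).asIdeal →
      Function.Bijective fun m : Γ(F, (⊤ : X.Opens)) => s • m)
  (htor : ∀ s ∈ ((isAffineOpen_top X).primeIdealOf ⟨p, trivial⟩).asIdeal,
    ∀ m : Γ(F, (⊤ : X.Opens)), ∃ n : ℕ, s ^ n • m = 0)

theorem primeIdealOf_le_iff (q : X) :
    ((isAffineOpen_top X).primeIdealOf ⟨p, trivial⟩).asIdeal ≤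
      ((isAffineOpen_top X).primeIdealOf ⟨q, trivial⟩).asIdeal ↔ p ⤳ q := by
  let hT := isAffineOpen_top X
  refine ((PrimeSpectrum.le_iff_specializes _ _).trans ?_)
  rw [← hT.fromSpec.isOpenEmbedding.isInducing.specializes_iff]
  have h1 := hT.fromSpec_primeIdealOf ⟨p, trivial⟩
  have h2 := hT.fromSpec_primeIdealOf ⟨q, trivial⟩
  rw [h1, h2]

include hunit htor in
theorem isIso_skyLift : IsIso (skyLift p (𝟙 ((DerSch.stalkFunctor X p).obj F))) := by
  let L := skyLift p (𝟙 ((DerSch.stalkFunctor X p).obj F))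
  let Φ := skyObj p ((DerSch.stalkFunctor X p).obj F)
  refine isIso_of_stalks L fun q => (ConcreteCategory.isIso_iff_bijective _).2 ?_
  let hT := isAffineOpen_top X
  have hloc : ∀ y : X,
      letI := Module.compHom (F.presheaf.stalk y) (X.presheaf.germ ⊤ y trivial).hom
      IsLocalizedModule (hT.primeIdealOf ⟨y, trivial⟩).asIdeal.primeCompl
        (FlatLib.germLin F (U := ⊤) (x := y) trivial) := fun y =>
    FlatLib.isLocalizedModule_germLin F hT trivial
  have hbij : ∀ y : X, p ⤳ y → Function.Bijective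
      (F.presheaf.germ ⊤ y trivial : Γ(F, ⊤) → F.presheaf.stalk y) := fun y hy => by
    letI := Module.compHom (F.presheaf.stalk y) (X.presheaf.germ ⊤ y trivial).hom
    haveI := hloc y
    exact bijective_of_units_bijective (FlatLib.germLin F (U := ⊤) (x := y) trivial)
      (S := (hT.primeIdealOf ⟨y, trivial⟩).asIdeal.primeCompl)
      fun s hs => hunit s fun hsp => hs ((primeIdealOf_le_iff p y).2 hy hsp)
  have hL : ∀ (y : X) (W : X.Opens) (hy : y ∈ W) (t : Γ(F, W)),
      ((DerSch.stalkFunctor X y).map L).hom (F.presheaf.germ W y hy t) =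
        Φ.presheaf.germ W y hy (L.app W t) := fun y W hy t => DerSch.stalkFunctor_map_germ y L W hy t
  by_cases hpq : p ⤳ q
  · refine ⟨(injective_iff_map_eq_zero _).2 fun z hz => ?_, fun y => ?_⟩
    · obtain ⟨m, rfl⟩ := (hbij q hpq).2 z
      have h0 : Φ.presheaf.germ ⊤ q trivial (L.app ⊤ m) = Φ.presheaf.germ ⊤ q trivial 0 :=
        (hL q ⊤ trivial m).symm.trans (hz.trans (map_zero (Φ.presheaf.germ ⊤ q trivial).hom).symm)
      obtain ⟨W, hqW, i₁, i₂, hW⟩ := Φ.presheaf.germ_eq (U := (⊤ : X.Opens)) (V := (⊤ : X.Opens)) q trivial trivial _ _ h0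
      have hpW : p ∈ W := hpq.mem_open W.2 hqW
      have h1 := congrArg (skyVal p hpW) hW
      rw [skyVal_map, skyVal_map, map_zero] at h1
      have h2 : F.presheaf.germ ⊤ p trivial m = F.presheaf.germ ⊤ p trivial 0 := by
        refine (skyLift_app p (𝟙 _) (U := ⊤) trivial m).symm.trans (h1.trans ?_)
        exact (map_zero (F.presheaf.germ ⊤ p trivial).hom).symm
      rw [(hbij p specializes_rfl).1 h2]
      exact map_zero (F.presheaf.germ ⊤ q trivial).hom
    · obtain ⟨W, hqW, f, rfl⟩ := Φ.presheaf.exists_germ_eq (x := q) y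
      have hpW : p ∈ W := hpq.mem_open W.2 hqW
      obtain ⟨m, hm⟩ := (hbij p specializes_rfl).2 (skyVal p hpW f)
      refine ⟨F.presheaf.germ ⊤ q trivial m, (hL q ⊤ trivial m).trans ?_⟩
      refine Φ.presheaf.germ_ext W hqW (homOfLE le_top) (𝟙 W) (skyObj_ext p _ _ _ fun h => ?_)
      change skyVal p (U := W) h _ = skyVal p (U := W) h _
      refine (skyVal_map p (homOfLE le_top) h (L.app ⊤ m)).trans (Eq.trans ?_ (skyVal_map p (𝟙 W) h f).symm)
      exact (skyLift_app p (𝟙 _) (U := ⊤) trivial m).trans hm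
  · have hns : ¬ ((hT.primeIdealOf ⟨p, trivial⟩).asIdeal ≤ (hT.primeIdealOf ⟨q, trivial⟩).asIdeal) :=
      fun h => hpq ((primeIdealOf_le_iff p q).1 h)
    obtain ⟨s, hsp, hsq⟩ := SetLike.not_le_iff_exists.1 hns
    have hF : ∀ z : (DerSch.stalkFunctor X q).obj F, z = 0 := fun z => by
      letI := Module.compHom (F.presheaf.stalk q) (X.presheaf.germ ⊤ q trivial).hom
      haveI := hloc q
      refine eq_zero_of_torsion (FlatLib.germLin F (U := ⊤) (x := q) trivial)
        (S := (hT.primeIdealOf ⟨q, trivial⟩).asIdeal.primeCompl) (fun m => ?_) z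
      obtain ⟨n, hn⟩ := htor s hsp m
      exact ⟨s ^ n, pow_mem (show s ∈ (hT.primeIdealOf ⟨q, trivial⟩).asIdeal.primeCompl from hsq) n, hn⟩
    have hΦ : ∀ y : (DerSch.stalkFunctor X q).obj Φ, y = 0 := fun y => by
      obtain ⟨W, hqW, f, rfl⟩ := Φ.presheaf.exists_germ_eq (x := q) y
      let O : X.Opens := ⟨(closure {p})ᶜ, isClosed_closure.isOpen_compl⟩
      have hqO : q ∈ O := fun h => hpq (specializes_iff_mem_closure.2 h)
      refine Eq.trans ?_ (map_zero (Φ.presheaf.germ W q hqW).hom)
      exact Φ.presheaf.germ_ext (W ⊓ O) ⟨hqW, hqO⟩ (homOfLE inf_le_left) (homOfLE inf_le_left)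
        (skyObj_ext p _ _ _ fun h => absurd (subset_closure (Set.mem_singleton p)) h.2)
    exact ⟨fun a b _ => (hF a).trans (hF b).symm, fun y => ⟨0, (map_zero _).trans (hΦ y).symm⟩⟩

include hunit htor in
/-- An injective module supported at a prime gives an injective sheaf. -/
theorem injective_of_isSky [IsNoetherianRing Γ(X, (⊤ : X.Opens))]
    [Module.Injective Γ(X, (⊤ : X.Opens)) Γ(F, (⊤ : X.Opens))] : Injective F := by
  haveI := isIso_skyLift F p hunit htor
  haveI := stalk_injective_of_sections F (isAffineOpen_top X) (q := p) trivial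
  haveI : Injective ((DerSch.stalkFunctor X p).obj F) :=
    Module.injective_object_of_injective_module (X.presheaf.stalk p) (F.presheaf.stalk p)
  exact Injective.of_iso (asIso (skyLift p (𝟙 ((DerSch.stalkFunctor X p).obj F)))).symm
    (injective_skyObj p ((DerSch.stalkFunctor X p).obj F))

end Affine

end InjModLib
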